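/-
Numbers of generators of `p`-groups: `p`-central groups, and groups of unitriangular matrices.
-/
import Cfsg.Agent.Lib.Fus3.Black
import Cfsg.Agent.Lib.PGrp.Alperin
import Cfsg.Agent.Lib.Linear.Tv

set_option autoImplicit false
set_option linter.unusedSectionVars false

namespace Cfsg.Lib.PGrp

open Subgroup
open scoped commutatorElement

universe u

section rank

variable {G : Type*} [Group G] [Finite G]

theorem exists_gen_of_subgroup (N : Subgroup G) :
    ∃ S : Finset G, S.card ≤ Group.rank N ∧ closure (S : Set G) = N := by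
  classical
  obtain ⟨S, h1, h2⟩ := Group.rank_spec N
  refine ⟨S.image N.subtype, Finset.card_image_le.trans h1.le, ?_⟩
  rw [Finset.coe_image, ← MonoidHom.map_closure, h2, ← MonoidHom.range_eq_map, range_subtype]

theorem grank_le_add (S : Finset G) (N M : Subgroup G) (hM : M ≤ frattini G)
    (h : closure (S : Set G) ⊔ N ⊔ M = ⊤) : Group.rank G ≤ S.card + Group.rank N := by
  classical
  obtain ⟨T, h1, h2⟩ := exists_gen_of_subgroup N
  have h3 : closure ((S ∪ T : Finset G) : Set G) = ⊤ := by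
    rw [Finset.coe_union, Subgroup.closure_union, h2]
    exact frattini_nongenerating (top_le_iff.1 (h ▸ sup_le_sup_left hM _))
  exact (Group.rank_le h3).trans ((Finset.card_union_le _ _).trans (by omega))

theorem grank_le_quotient (M : Subgroup G) [M.Normal] (hM : M ≤ frattini G) :
    Group.rank G ≤ Group.rank (G ⧸ M) := by
  classical
  obtain ⟨S, h1, h2⟩ := Group.rank_spec (G ⧸ M)
  have h3 : closure ((S.image Quotient.out : Finset G) : Set G) ⊔ ⊥ ⊔ M = ⊤ := by
    rw [sup_bot_eq, eq_top_iff]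
    have h4 : (closure ((S.image Quotient.out : Finset G) : Set G)).map (QuotientGroup.mk' M) = ⊤ := by
      rw [MonoidHom.map_closure, Finset.coe_image, ← Set.image_comp, ← h2]
      congr 1
      ext x
      simp
    have h5 := comap_map_eq (QuotientGroup.mk' M) (closure ((S.image Quotient.out : Finset G) : Set G))
    rw [h4, QuotientGroup.ker_mk'] at h5
    rw [← h5]; simp
  have := grank_le_add _ _ _ hM h3
  rw [Group.rank_eq_zero (G := (⊥ : Subgroup G))] at this
  exact this.trans (Finset.card_image_le.trans h1.le)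

variable {p : ℕ} [hp : Fact p.Prime]

theorem grank_le_of_pCentral_aux (hp2 : p ≠ 2) (n : ℕ) : ∀ (G : Type u) [Group G] [Finite G], Nat.card G = n →
    IsPGroup p G → ∀ (k : ℕ) (W : Subgroup G), (∀ y, y ∈ W ↔ y ^ p = 1) → W ≤ center G →
    Nat.card W ≤ p ^ k → Group.rank G ≤ k := by
  classical
  induction n using Nat.strong_induction_on with
  | _ n ih =>
  intro G _ _ hn hG k W hmem hWc hO
  have hc : ∀ y : G, y ^ p = 1 → y ∈ center G := fun y hy => hWc ((hmem y).2 hy)
  rcases subsingleton_or_nontrivial G with h1 | h1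
  · rw [Group.rank_eq_zero]; exact Nat.zero_le _
  have hW1 : W ≠ ⊥ := by
    obtain ⟨x, -, hx⟩ := exists_mem_orderOf_eq hG (H := ⊤) top_ne_bot
    intro e
    have : x ∈ W := (hmem x).2 (hx ▸ pow_orderOf_eq_one x)
    rw [e, mem_bot] at this
    rw [this, orderOf_one] at hx
    exact hp.out.one_lt.ne hx
  have := normal_of_le_center hWc
  by_cases hF : W ≤ frattini G
  · refine (grank_le_quotient W hF).trans ?_
    have hcm : ∀ x : G, x ^ p ∈ W → ∀ g, ⁅x, g⁆ ∈ W := fun x hx g => (hmem _).2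
      (pCentral_comm_aux hp2 hG hc _ ⊤ rfl x trivial (fun g _ => commute_of_mem_center (hWc hx) g) g trivial)
    have hq : ∀ y : G ⧸ W, y ^ p = 1 → y ∈ center (G ⧸ W) := fun y hy => by
      obtain ⟨x, rfl⟩ := QuotientGroup.mk_surjective y
      exact (mk_mem_center_iff W x).2 (hcm x ((QuotientGroup.eq_one_iff _).1 hy))
    have hq1 : ∀ y ∈ omegaOne p (⊤ : Subgroup (G ⧸ W)), y ^ p = 1 := fun y hy =>
      pow_eq_one_of_mem_omegaOne_of_comm (n := p) (A := center (G ⧸ W)) inferInstance y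
        (omegaOne_le_iff.2 (fun z _ hz => mem_omegaOne_of_pow (hq z hz) hz) hy)
    refine ih _ ?_ _ rfl (hG.to_quotient W) k (omegaOne p ⊤)
      (fun y => ⟨hq1 y, fun hy => mem_omegaOne_of_pow trivial hy⟩) (fun y hy => hq y (hq1 y hy)) ?_
    · rw [← hn, card_eq_card_quotient_mul_card_subgroup W]
      exact lt_mul_of_one_lt_right Nat.card_pos ((one_lt_card_iff_ne_bot _).2 hW1)
    · refine le_trans ?_ hO
      have hq2 : ∀ y : omegaOne p (⊤ : Subgroup (G ⧸ W)), (Quotient.out y.1) ^ p ∈ W := fun y => by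
        rw [← QuotientGroup.eq_one_iff, QuotientGroup.mk_pow, QuotientGroup.out_eq']; exact hq1 y y.2
      refine Nat.card_le_card_of_injective (fun y => (⟨_, hq2 y⟩ : W)) fun y y' e => ?_
      have e1 : (Quotient.out y.1) ^ p = (Quotient.out y'.1) ^ p := congrArg Subtype.val e
      have h4 := hcm _ (hq2 y') (Quotient.out y.1)⁻¹
      have h5 := commute_of_mem_center (hWc h4)
      have h6 : ((Quotient.out y.1)⁻¹ * Quotient.out y'.1) ^ p = 1 := by
        rw [mul_pow_eq_of_odd (h5 _) (h5 _) (hp.out.odd_of_ne_two hp2) ((hmem _).1 h4), inv_pow, e1,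
          inv_mul_cancel]
      ext
      rw [← QuotientGroup.out_eq' y.1, ← QuotientGroup.out_eq' y'.1]
      exact QuotientGroup.eq.2 ((hmem _).2 h6)
  · obtain ⟨w, hw, hwF⟩ := SetLike.not_le_iff_exists.1 hF
    rw [mem_frattini_iff hG] at hwF
    push Not at hwF
    obtain ⟨M, hM, hwM⟩ := hwF
    have hco := (isCoatom_iff_index_eq hG).2 hM
    have hlt : Nat.card (W.subgroupOf M) < Nat.card W := by
      rw [← inf_subgroupOf_right, Nat.card_congr (subgroupOfEquivOfLe inf_le_right).toEquiv]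
      exact card_lt_of_lt (lt_of_le_of_ne inf_le_left fun e => hwM (inf_eq_left.1 e hw))
    obtain _ | k := k
    · have := Nat.card_pos (α := W.subgroupOf M)
      rw [pow_zero] at hO
      omega
    have h2 := ih _ (hn ▸ card_lt_of_ne_top hco.1) M rfl (hG.to_subgroup M) k (W.subgroupOf M)
      (fun y => by rw [mem_subgroupOf, hmem, ← coe_pow, OneMemClass.coe_eq_one])
      (fun y hy => mem_center_iff.2 fun g => Subtype.ext (mem_center_iff.1 (hWc hy) g))
      (card_le_pow_of_lt ((hG.to_subgroup M).to_subgroup _) (hlt.trans_le hO))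
    have h3 := grank_le_add {w} M ⊥ bot_le (by
      rw [sup_bot_eq]
      refine hco.2 _ (lt_of_le_of_ne le_sup_right fun e => hwM ?_)
      rw [e]; exact mem_sup_left (subset_closure (by simp)))
    rw [Finset.card_singleton] at h3
    omega

end rank

section mat

variable {m : ℕ} {F : Type*} [Field F]

/-- The weight of a matrix position. -/
def posWt (i j : Fin m) : ℤ := 2 ^ (j : ℕ) - 2 ^ (i : ℕ)

theorem posWt_add (i j l : Fin m) : posWt i j + posWt j l = posWt i l := by simp [posWt]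

theorem posWt_pos {i j : Fin m} : 0 < posWt i j ↔ i < j := by
  rw [posWt, sub_pos, pow_lt_pow_iff_right₀ (by norm_num), Fin.lt_def]

theorem posWt_lt (i j : Fin m) : posWt i j < 2 ^ m := by
  have h1 : (2 : ℤ) ^ (j : ℕ) < 2 ^ m := pow_lt_pow_right₀ (by norm_num) j.2
  have h2 : (0 : ℤ) < 2 ^ (i : ℕ) := by positivity
  rw [posWt]; omega

theorem posWt_lt_of_lt {i j a b : Fin m} (h : a < b) (hj : j < b) : posWt i j < posWt a b := by
  obtain ⟨c, hc⟩ : ∃ c, (b : ℕ) = c + 1 := ⟨b - 1, by have := Fin.lt_def.1 h; omega⟩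
  have h1 : (2 : ℤ) ^ (j : ℕ) ≤ 2 ^ c := pow_le_pow_right₀ (by norm_num) (by have := Fin.lt_def.1 hj; omega)
  have h2 : (2 : ℤ) ^ (a : ℕ) ≤ 2 ^ c := pow_le_pow_right₀ (by norm_num) (by have := Fin.lt_def.1 h; omega)
  have h3 : (0 : ℤ) < 2 ^ (i : ℕ) := by positivity
  rw [posWt, posWt, hc, pow_succ]; omega

theorem posWt_inj {i j a b : Fin m} (h0 : 0 < posWt i j) (h : posWt i j = posWt a b) : i = a ∧ j = b := by
  have h1 := posWt_pos.1 h0
  have h2 := posWt_pos.1 (h ▸ h0)
  obtain rfl : j = b := by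
    rcases lt_trichotomy j b with h3 | h3 | h3
    · exact absurd h (posWt_lt_of_lt h2 h3).ne
    · exact h3
    · exact absurd h (posWt_lt_of_lt h1 h3).ne'
  refine ⟨Fin.ext (pow_right_injective₀ (a := (2 : ℤ)) (by norm_num) (by norm_num) ?_), rfl⟩
  simp only [posWt] at h
  show (2 : ℤ) ^ (i : ℕ) = 2 ^ (a : ℕ)
  omega

/-- All entries of weight less than `t` vanish. -/
def DeepM (t : ℤ) (M : Matrix (Fin m) (Fin m) F) : Prop := ∀ i j, posWt i j < t → M i j = 0

theorem DeepM.mul {s t : ℤ} {M N : Matrix (Fin m) (Fin m) F} (hM : DeepM s M) (hN : DeepM t N) :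
    DeepM (s + t) (M * N) := fun i l h => by
  rw [Matrix.mul_apply]
  refine Finset.sum_eq_zero fun j _ => ?_
  have := posWt_add i j l
  by_cases h1 : posWt i j < s
  · rw [hM i j h1, zero_mul]
  · rw [hN j l (by omega), mul_zero]

theorem DeepM.mono {s t : ℤ} {M : Matrix (Fin m) (Fin m) F} (hM : DeepM s M) (h : t ≤ s) : DeepM t M :=
  fun i j h' => hM i j (by omega)

theorem DeepM.add {t : ℤ} {M N : Matrix (Fin m) (Fin m) F} (hM : DeepM t M) (hN : DeepM t N) :
    DeepM t (M + N) := fun i j h => by rw [Matrix.add_apply, hM i j h, hN i j h, add_zero]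

theorem DeepM.sub {t : ℤ} {M N : Matrix (Fin m) (Fin m) F} (hM : DeepM t M) (hN : DeepM t N) :
    DeepM t (M - N) := fun i j h => by rw [Matrix.sub_apply, hM i j h, hN i j h, sub_zero]

theorem DeepM.mul_lead {i j l : Fin m} {M N : Matrix (Fin m) (Fin m) F} (hM : DeepM (posWt i j) M)
    (hN : DeepM (posWt j l) N) (h0 : i < j) : (M * N) i l = M i j * N j l := by
  rw [Matrix.mul_apply]
  refine Finset.sum_eq_single j (fun a _ ha => ?_) (by simp)
  have h1 := posWt_add i j l
  have h2 := posWt_add i a l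
  rcases lt_trichotomy (posWt i a) (posWt i j) with h | h | h
  · rw [hM i a h, zero_mul]
  · exact absurd (posWt_inj (posWt_pos.2 h0) h.symm).2.symm ha
  · rw [hN a l (by omega), mul_zero]

theorem DeepM.mul_lead' {i j l : Fin m} {M N : Matrix (Fin m) (Fin m) F} (hM : DeepM (posWt i j) M)
    (hN : DeepM (posWt j l) N) (h0 : i < j) (h0' : j < l) : (N * M) i l = 0 := by
  rw [Matrix.mul_apply]
  refine Finset.sum_eq_zero fun a _ => ?_
  have h1 := posWt_add i j l
  have h2 := posWt_add i a l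
  rcases lt_trichotomy (posWt a l) (posWt i j) with h | h | h
  · rw [hM a l h, mul_zero]
  · exact absurd (posWt_inj (posWt_pos.2 h0) h.symm).2 h0'.ne
  · rw [hN i a (by omega), zero_mul]

variable {H : Type*} [Group H] (ρ : H →* Matrix (Fin m) (Fin m) F)

theorem rep_mul_sub (x y : H) : ρ (x * y) - 1 = (ρ x - 1) + (ρ y - 1) + (ρ x - 1) * (ρ y - 1) := by
  rw [map_mul]; noncomm_ring

theorem rep_comm_sub (x y : H) : ρ ⁅x, y⁆ - 1 = ((ρ x - 1) * (ρ y - 1) - (ρ y - 1) * (ρ x - 1)) +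
    ((ρ x - 1) * (ρ y - 1) - (ρ y - 1) * (ρ x - 1)) * (ρ (x⁻¹ * y⁻¹) - 1) := by
  have h : ρ y * ρ x * ρ (x⁻¹ * y⁻¹) = 1 := by rw [← map_mul, ← map_mul]; simp
  have h2 : ρ ⁅x, y⁆ = ρ x * ρ y * ρ (x⁻¹ * y⁻¹) := by
    rw [← map_mul, ← map_mul, commutatorElement_def, mul_assoc]
  rw [h2]
  conv_lhs => rw [← h]
  noncomm_ring

variable {ρ}

theorem deep_mul (h1 : ∀ g, DeepM 1 (ρ g - 1)) {t : ℤ} {x y : H} (hx : DeepM t (ρ x - 1))
    (hy : DeepM t (ρ y - 1)) : DeepM t (ρ (x * y) - 1) ∧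
      ∀ i j, posWt i j = t → (ρ (x * y) - 1) i j = (ρ x - 1) i j + (ρ y - 1) i j := by
  rw [rep_mul_sub]
  refine ⟨(hx.add hy).add ((hx.mul (h1 y)).mono (by omega)), fun i j h => ?_⟩
  rw [Matrix.add_apply, hx.mul (h1 y) i j (by omega), add_zero, Matrix.add_apply]

theorem deep_pow (h1 : ∀ g, DeepM 1 (ρ g - 1)) {t : ℤ} {x : H} (hx : DeepM t (ρ x - 1)) (n : ℕ) :
    DeepM t (ρ (x ^ n) - 1) ∧ ∀ i j, posWt i j = t → (ρ (x ^ n) - 1) i j = n * (ρ x - 1) i j := by
  induction n with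
  | zero => simp [DeepM]
  | succ n ih =>
    rw [pow_succ]
    refine ⟨(deep_mul h1 ih.1 hx).1, fun i j h => ?_⟩
    rw [(deep_mul h1 ih.1 hx).2 i j h, ih.2 i j h]
    push_cast; ring

/-- `x` has leading position `(i, j)`. -/
def LeadAt (ρ : H →* Matrix (Fin m) (Fin m) F) (i j : Fin m) (x : H) : Prop :=
  DeepM (posWt i j) (ρ x - 1) ∧ (ρ x - 1) i j ≠ 0

theorem LeadAt.lt (h1 : ∀ g, DeepM 1 (ρ g - 1)) {i j : Fin m} {x : H} (h : LeadAt ρ i j x) : i < j :=
  posWt_pos.1 (by by_contra h2; exact h.2 (h1 x i j (by omega)))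

theorem LeadAt.comm (h1 : ∀ g, DeepM 1 (ρ g - 1)) {i j l : Fin m} {x y : H} (hx : LeadAt ρ i j x)
    (hy : LeadAt ρ j l y) : LeadAt ρ i l ⁅x, y⁆ := by
  have e := posWt_add i j l
  have h2 : DeepM (posWt i l) ((ρ x - 1) * (ρ y - 1) - (ρ y - 1) * (ρ x - 1)) :=
    ((hx.1.mul hy.1).mono (by omega)).sub ((hy.1.mul hx.1).mono (by omega))
  rw [LeadAt, rep_comm_sub]
  refine ⟨h2.add ((h2.mul (h1 _)).mono (by omega)), ?_⟩
  rw [Matrix.add_apply, h2.mul (h1 _) i l (by omega), add_zero, Matrix.sub_apply,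
    hx.1.mul_lead hy.1 (hx.lt h1), hx.1.mul_lead' hy.1 (hx.lt h1) (hy.lt h1), sub_zero]
  exact mul_ne_zero hx.2 hy.2

theorem eq_top_of_lead (hF : ∀ a : F, ∃ n : ℕ, a = n) (h1 : ∀ g, DeepM 1 (ρ g - 1)) (K : Subgroup H)
    (hk : ∀ g, ρ g = 1 → g ∈ K) (hK : ∀ i j x, LeadAt ρ i j x → ∃ y ∈ K, LeadAt ρ i j y) : K = ⊤ := by
  have key : ∀ n : ℕ, ∀ g, DeepM (2 ^ m - n) (ρ g - 1) → g ∈ K := by
    intro n
    induction n with
    | zero =>
      intro g hg
      refine hk g (sub_eq_zero.1 ?_)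
      ext i j
      exact hg i j (by simpa using posWt_lt i j)
    | succ n ih =>
      intro g hg
      by_cases h : ∃ i j, posWt i j = 2 ^ m - (n + 1 : ℕ) ∧ (ρ g - 1) i j ≠ 0
      · obtain ⟨i, j, e, h⟩ := h
        obtain ⟨y, hyK, hy⟩ := hK i j g ⟨e ▸ hg, h⟩
        obtain ⟨c, hc⟩ := hF (-(ρ g - 1) i j / (ρ y - 1) i j)
        have h2 := deep_pow h1 (e ▸ hy.1) c
        have h3 := deep_mul h1 hg h2.1
        have h4 : g * y ^ c ∈ K := ih _ fun a b hab => by
          rcases lt_or_eq_of_le (show posWt a b ≤ 2 ^ m - (n + 1 : ℕ) by push_cast; omega) with h5 | h5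
          · exact h3.1 a b h5
          · obtain ⟨rfl, rfl⟩ := posWt_inj (posWt_pos.2 (hy.lt h1)) (e.trans h5.symm)
            rw [h3.2 i j e, h2.2 i j e, ← hc, div_mul_cancel₀ _ hy.2, add_neg_cancel]
        simpa using K.mul_mem h4 (K.inv_mem (K.pow_mem hyK c))
      · push Not at h
        refine ih g fun a b hab => ?_
        rcases lt_or_eq_of_le (show posWt a b ≤ 2 ^ m - (n + 1 : ℕ) by push_cast; omega) with h5 | h5
        · exact hg a b h5
        · exact h a b h5
  refine eq_top_iff.2 fun g _ => key (2 ^ m) g ((h1 g).mono (by simp))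

theorem card_le_of_no_triangle (T : Finset (Fin m × Fin m)) (h0 : ∀ q ∈ T, q.1 < q.2)
    (h : ∀ i j l, (i, j) ∈ T → (j, l) ∈ T → (i, l) ∉ T) : T.card ≤ m ^ 2 / 4 := by
  classical
  let Γ : SimpleGraph (Fin m) :=
    { Adj := fun a b => (a, b) ∈ T ∨ (b, a) ∈ T
      symm := ⟨fun a b h => h.symm⟩
      loopless := ⟨fun a h => by rcases h with h | h <;> exact lt_irrefl _ (h0 _ h)⟩ }
  have hc : Γ.CliqueFree (2 + 1) := fun s hs => by
    obtain ⟨a, b, c, h1, h2, h3, -⟩ := SimpleGraph.is3Clique_iff.1 hs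
    rcases h1 with h1 | h1 <;> rcases h2 with h2 | h2 <;> rcases h3 with h3 | h3
    · exact h _ _ _ h1 h3 h2
    · exact h _ _ _ h2 h3 h1
    · exact lt_asymm ((h0 _ h1).trans (h0 _ h3)) (h0 _ h2)
    · exact h _ _ _ h2 h1 h3
    · exact h _ _ _ h1 h2 h3
    · exact lt_asymm ((h0 _ h2).trans (h0 _ h3)) (h0 _ h1)
    · exact h _ _ _ h3 h2 h1
    · exact h _ _ _ h3 h1 h2
  have h2 := hc.card_edgeFinset_le
  simp only [Fintype.card_fin] at h2
  have h3 : T.card ≤ Γ.edgeFinset.card := by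
    refine Finset.card_le_card_of_injOn (fun q => s(q.1, q.2)) (fun q hq => ?_) fun q hq q' hq' e => ?_
    · simp only [SimpleGraph.coe_edgeFinset, SimpleGraph.mem_edgeSet]
      exact Or.inl hq
    · rcases Sym2.eq_iff.1 e with ⟨e1, e2⟩ | ⟨e1, e2⟩
      · exact Prod.ext e1 e2
      · exact absurd (h0 q hq) (by rw [e1, e2]; exact (h0 q' hq').asymm)
  have h4 : (m % 2).choose 2 = 0 := Nat.choose_eq_zero_of_lt (Nat.mod_lt _ two_pos)
  rw [h4] at h2
  refine h3.trans (h2.trans ?_)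
  simp only [Nat.add_one_sub_one, mul_one, add_zero]
  exact Nat.div_le_div_right (Nat.sub_le _ _)

theorem exists_gen_unitri (hF : ∀ a : F, ∃ n : ℕ, a = n) (h1 : ∀ g, DeepM 1 (ρ g - 1)) (N : Subgroup H)
    (hN : ∀ g, ρ g = 1 → g ∈ N) :
    ∃ S : Finset H, S.card ≤ m ^ 2 / 4 ∧ closure (S : Set H) ⊔ N ⊔ _root_.commutator H = ⊤ := by
  classical
  let T : Finset (Fin m × Fin m) := Finset.univ.filter fun q =>
    (∃ x, LeadAt ρ q.1 q.2 x) ∧ ¬ ∃ x ∈ _root_.commutator H, LeadAt ρ q.1 q.2 x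
  have hT : T.card ≤ m ^ 2 / 4 := by
    refine card_le_of_no_triangle T (fun q hq => ?_) fun i j l hij hjl hil => ?_
    · obtain ⟨x, hx⟩ := (Finset.mem_filter.1 hq).2.1
      exact hx.lt h1
    · obtain ⟨x, hx⟩ := (Finset.mem_filter.1 hij).2.1
      obtain ⟨y, hy⟩ := (Finset.mem_filter.1 hjl).2.1
      exact (Finset.mem_filter.1 hil).2.2 ⟨_, commutator_mem_commutator trivial trivial, hx.comm h1 hy⟩
  have hx : ∀ q : Fin m × Fin m, ∃ x : H, q ∈ T → LeadAt ρ q.1 q.2 x := fun q => by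
    by_cases hq : q ∈ T
    · obtain ⟨x, hx⟩ := (Finset.mem_filter.1 hq).2.1
      exact ⟨x, fun _ => hx⟩
    · exact ⟨1, fun h => absurd h hq⟩
  choose f hf using hx
  refine ⟨T.image f, Finset.card_image_le.trans hT, eq_top_of_lead hF h1 _
    (fun g hg => mem_sup_left (mem_sup_right (hN g hg))) fun i j x hx => ?_⟩
  by_cases hq : (i, j) ∈ T
  · exact ⟨f (i, j), mem_sup_left (mem_sup_left (subset_closure
      (Finset.mem_coe.2 (Finset.mem_image_of_mem _ hq)))), hf _ hq⟩
  · simp only [T, Finset.mem_filter, Finset.mem_univ, true_and, not_and, not_not] at hq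
    obtain ⟨y, hy, hy'⟩ := hq ⟨x, hx⟩
    exact ⟨y, mem_sup_right hy, hy'⟩

end mat

section final

variable {p : ℕ} [hp : Fact p.Prime]

theorem mulAut_equiv_GL_of_module {V : Type*} [AddCommGroup V] [Finite V] {n : ℕ}
    [Module (ZMod p) V] (hn : Nat.card V = p ^ n) :
    Nonempty (MulAut (Multiplicative V) ≃* Matrix.GeneralLinearGroup (Fin n) (ZMod p)) := by
  have hr : Module.finrank (ZMod p) V = n := by
    have h1 := Module.natCard_eq_pow_finrank (K := ZMod p) (V := V)
    rw [Nat.card_zmod, hn] at h1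
    exact (Nat.pow_right_injective hp.out.two_le h1).symm
  let e : MulAut (Multiplicative V) ≃* (V ≃ₗ[ZMod p] V) :=
    { toFun := fun φ => { AddEquiv.toMultiplicative.symm φ with
        map_smul' := ZMod.map_smul (AddEquiv.toMultiplicative.symm φ) }
      invFun := fun f => AddEquiv.toMultiplicative f.toAddEquiv
      left_inv := fun φ => rfl
      right_inv := fun f => rfl
      map_mul' := fun φ ψ => LinearEquiv.ext fun x => rfl }
  exact ⟨e.trans ((LinearMap.GeneralLinearGroup.generalLinearEquiv _ _).symm.trans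
    (Matrix.GeneralLinearGroup.toLin' (Module.finBasisOfFinrankEq _ _ hr)).symm)⟩

theorem mulAut_equiv_GL_of_elem {W : Type*} [Group W] [Finite W] {n : ℕ}
    (hc : ∀ x y : W, x * y = y * x) (h2 : ∀ x : W, x ^ p = 1) (hn : Nat.card W = p ^ n) :
    Nonempty (MulAut W ≃* Matrix.GeneralLinearGroup (Fin n) (ZMod p)) := by
  letI : CommGroup W := { (inferInstance : Group W) with mul_comm := hc }
  letI : Module (ZMod p) (Additive W) := AddCommGroup.zmodModule fun x => by
    rw [← ofMul_toMul x, ← ofMul_pow, h2, ofMul_one]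
  obtain ⟨e⟩ := mulAut_equiv_GL_of_module (V := Additive W) (p := p) (n := n)
    ((Nat.card_congr Additive.toMul).trans hn)
  exact ⟨(MulAut.congr (MulEquiv.multiplicativeAdditive W).symm).trans e⟩

theorem exists_unitri_rep {H : Type*} [Group H] [Finite H] (hH : IsPGroup p H) {m : ℕ}
    (φ : H →* Matrix.GeneralLinearGroup (Fin m) (ZMod p)) :
    ∃ ρ : H →* Matrix (Fin m) (Fin m) (ZMod p), (∀ g, DeepM 1 (ρ g - 1)) ∧ ∀ g, ρ g = 1 → φ g = 1 := by
  have hd : ∀ g, (φ g : Matrix (Fin m) (Fin m) (ZMod p)).det = 1 := fun g => by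
    obtain ⟨k, hk⟩ := hH g
    have h1 : (φ g : Matrix (Fin m) (Fin m) (ZMod p)).det ^ p ^ k = 1 := by
      rw [← Matrix.det_pow, ← Units.val_pow_eq_pow_val, ← map_pow, hk, map_one, Units.val_one, Matrix.det_one]
    rwa [ZMod.pow_card_pow] at h1
  let ψ : H →* Matrix.SpecialLinearGroup (Fin m) (ZMod p) :=
    { toFun := fun g => ⟨φ g, hd g⟩
      map_one' := Subtype.ext (by simp)
      map_mul' := fun a b => Subtype.ext (congrArg Units.val (map_mul φ a b)) }
  let U := (Linear.isPGroup_slUnitri (p := p) (F := ZMod p) m).toSylow (Linear.not_dvd_index_slUnitri m)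
  have h1 : IsPGroup p ψ.range := hH.of_surjective ψ.rangeRestrict ψ.rangeRestrict_surjective
  obtain ⟨Q, hQ⟩ := h1.exists_le_sylow
  obtain ⟨s, hs⟩ := MulAction.exists_smul_eq (Matrix.SpecialLinearGroup (Fin m) (ZMod p)) Q U
  have h2 : ∀ g, s * ψ g * s⁻¹ ∈ Linear.slUnitri m (ZMod p) := fun g => by
    have : s * ψ g * s⁻¹ ∈ (U : Subgroup _) := by
      rw [← hs, Sylow.coe_subgroup_smul]
      exact smul_mem_pointwise_smul _ (MulAut.conj s) _ (hQ ⟨g, rfl⟩)
    exact this
  let ι : Matrix.SpecialLinearGroup (Fin m) (ZMod p) →* Matrix (Fin m) (Fin m) (ZMod p) :=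
    { toFun := fun g => g.1
      map_one' := rfl
      map_mul' := fun _ _ => rfl }
  refine ⟨ι.comp ((MulAut.conj s).toMonoidHom.comp ψ), fun g i j hij => ?_, fun g hg => ?_⟩
  · have h3 := Linear.mem_slUnitri.1 (h2 g)
    have h4 : ¬ i < j := fun h => by have := posWt_pos.2 h; omega
    show (s * ψ g * s⁻¹) i j - (1 : Matrix _ _ _) i j = 0
    rcases (not_lt.1 h4).lt_or_eq with h | rfl
    · rw [h3.1 i j h, Matrix.one_apply_ne h.ne', sub_zero]
    · rw [h3.2, Matrix.one_apply_eq, sub_self]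
  · have h3 : s * ψ g * s⁻¹ = 1 := Subtype.ext hg
    have h4 : ψ g = 1 := by simpa using h3
    exact Units.ext (congrArg Subtype.val h4)

theorem grank_le_of_normal_abelian {P : Type*} [Group P] [Finite P] (hp2 : p ≠ 2) (hP : IsPGroup p P) (k : ℕ)
    (hab : ∀ A : Subgroup P, A.Normal → IsMulCommutative A →
      ∃ S : Finset P, S.card ≤ k ∧ Subgroup.closure (S : Set P) = A) (H : Subgroup P) :
    Group.rank H ≤ k * (k + 4) / 4 := by
  obtain ⟨E, hEn, hE, -, -, hA⟩ := exists_normal_elem_self_centralizing_in hp2 hP ⊤ ⊥ bot_le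
    ⟨inferInstance, fun a ha => by rw [mem_bot.1 ha, one_pow]⟩
  obtain ⟨m, hm⟩ := exists_card_eq_pow hP E
  have hc : ∀ x y : E, x * y = y * x := fun x y => Subtype.ext (comm_of_mem hE.1 x.2 y.2)
  have h2 : ∀ x : E, x ^ p = 1 := fun x => Subtype.ext (hE.2 x x.2)
  have hmk : m ≤ k := by
    obtain ⟨S, hS, hS'⟩ := hab E hEn hE.1
    have h3 : Group.rank E ≤ k := by
      subst hS'
      exact (rank_closure_finset_le_card S).trans hS
    letI : CommGroup E := { (inferInstance : Group E) with mul_comm := hc }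
    have h4 := card_dvd_exponent_pow_rank' E h2
    rw [hm, Nat.pow_dvd_pow_iff_le_right hp.out.one_lt] at h4
    exact h4.trans h3
  obtain ⟨e⟩ := mulAut_equiv_GL_of_elem hc h2 hm
  have hH := hP.to_subgroup H
  obtain ⟨ρ, h1, hρ⟩ := exists_unitri_rep hH (e.toMonoidHom.comp ((MulAut.conjNormal (H := E)).comp H.subtype))
  obtain ⟨S, hS, hS'⟩ := exists_gen_unitri (fun a => ⟨a.val, (ZMod.natCast_zmod_val a).symm⟩) h1
    ((centralizer (E : Set P)).subgroupOf H) fun g hg => by
      have h3 : MulAut.conjNormal (H := E) (g : P) = 1 := e.injective ((hρ g hg).trans (map_one e).symm)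
      refine mem_subgroupOf.2 (mem_centralizer_iff.2 fun x hx => ?_)
      have h4 := congrArg Subtype.val (MulEquiv.congr_fun h3 ⟨x, hx⟩)
      simp only [MulAut.conjNormal_apply, MulAut.one_apply] at h4
      rw [← mul_inv_eq_iff_eq_mul.1 h4]
  have h3 := grank_le_add S _ _ (commutator_le_frattini hH) hS'
  have h4 : Group.rank ((centralizer (E : Set P)).subgroupOf H) ≤ k := by
    let j : (centralizer (E : Set P)).subgroupOf H →* P := H.subtype.comp (Subgroup.subtype _)
    have hj : Function.Injective j := H.subtype_injective.comp (Subgroup.subtype_injective _)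
    refine grank_le_of_pCentral_aux hp2 _ _ rfl (hH.to_subgroup _) k (E.comap j) (fun y => ⟨fun hy => ?_, fun hy => ?_⟩)
      (fun y hy => mem_center_iff.2 fun g => hj ?_) ?_
    · exact hj (by rw [map_pow, map_one]; exact hE.2 _ hy)
    · exact hA _ trivial y.2 (by rw [← map_pow, hy, map_one])
    · rw [map_mul, map_mul]
      exact (mem_centralizer_iff.1 g.2 _ hy).symm
    · refine le_trans ?_ (hm ▸ Nat.pow_le_pow_right hp.out.pos hmk : Nat.card E ≤ p ^ k)
      exact Nat.card_le_card_of_injective (fun y => (⟨j y.1, y.2⟩ : E)) fun y y' e =>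
        Subtype.ext (hj (congrArg (fun z : E => (z : P)) e))
  have h5 : m ^ 2 / 4 ≤ k ^ 2 / 4 := Nat.div_le_div_right (Nat.pow_le_pow_left hmk 2)
  have h6 : k * (k + 4) / 4 = k ^ 2 / 4 + k := by
    rw [show k * (k + 4) = k ^ 2 + 4 * k by ring, Nat.add_mul_div_left _ _ (by norm_num)]
  omega

end final

end Cfsg.Lib.PGrp
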