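import Cfsg.Agent.Lib.Known2.ES

/-! The real Clifford group of a quadratic space over the field with two elements. -/

set_option autoImplicit false

namespace Cfsg.Lib.PGrp.Cliff

open Matrix

/-- the sign character -/
def sg (a : ZMod 2) : ℝ := if a = 0 then 1 else -1

theorem sg_add (a b : ZMod 2) : sg (a + b) = sg a * sg b := by
  have : ∀ a b : ZMod 2, a + b = 0 ↔ (a = 0 ↔ b = 0) := by decide
  by_cases h : a = 0 <;> by_cases h' : b = 0 <;> simp [sg, this, h, h']

@[simp] theorem sg_zero : sg 0 = 1 := if_pos rfl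

theorem sg_or (a : ZMod 2) : sg a = 1 ∨ sg a = -1 := by unfold sg; split_ifs <;> simp

theorem sg_sq (a : ZMod 2) : sg a * sg a = 1 := by rcases sg_or a with e | e <;> simp [e]

theorem sg_eq_one {a : ZMod 2} : sg a = 1 ↔ a = 0 := by unfold sg; split_ifs with h <;> simp [h]; norm_num

variable {U : Type*} [AddCommGroup U] [Module (ZMod 2) U] [Fintype U] [DecidableEq U] (β : LinearMap.BilinForm (ZMod 2) U)

omit [Fintype U] [DecidableEq U] in
theorem add_self (u : U) : u + u = 0 := by rw [← two_smul (ZMod 2), show (2 : ZMod 2) = 0 from rfl, zero_smul]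

/-- left multiplication in the twisted group algebra -/
def L (u : U) : Matrix U U ℝ := of fun x y => if x = u + y then sg (β u y) else 0

/-- right multiplication in the twisted group algebra -/
def R (u : U) : Matrix U U ℝ := of fun x y => if x = u + y then sg (β y u) else 0

theorem mul_L (T : Matrix U U ℝ) (u x y : U) : (T * L β u) x y = T x (u + y) * sg (β u y) := by simp [L, mul_apply]

theorem mul_R (T : Matrix U U ℝ) (u x y : U) : (T * R β u) x y = T x (u + y) * sg (β y u) := by simp [R, mul_apply]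

omit [Fintype U] [DecidableEq U] in
theorem eq_add_iff {x u y : U} : x = u + y ↔ y = u + x := by
  constructor <;> rintro rfl <;> rw [← add_assoc, add_self, zero_add]

theorem L_mul (T : Matrix U U ℝ) (u x y : U) : (L β u * T) x y = sg (β u (u + x)) * T (u + x) y := by
  simp [L, mul_apply, eq_add_iff (x := x)]

theorem R_mul (T : Matrix U U ℝ) (u x y : U) : (R β u * T) x y = sg (β (u + x) u) * T (u + x) y := by
  simp [R, mul_apply, eq_add_iff (x := x)]

theorem L_L (u v : U) : L β u * L β v = sg (β u v) • L β (u + v) := by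
  ext x y
  rw [mul_L]
  simp only [L, of_apply, Matrix.smul_apply, smul_eq_mul, add_assoc, map_add, LinearMap.add_apply, sg_add]
  split_ifs <;> ring

theorem L_R (u v : U) : L β u * R β v = R β v * L β u := by
  ext x y
  rw [mul_L, mul_R]
  simp only [L, R, of_apply, map_add, LinearMap.add_apply, sg_add, add_left_comm u]
  split_ifs <;> ring

omit [Fintype U] in
theorem L_zero : L β 0 = 1 := by ext x y; simp [L, one_apply]

omit [Fintype U] in
theorem L_tr (u : U) : (L β u)ᵀ = sg (β u u) • L β u := by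
  ext x y
  simp only [L, of_apply, transpose_apply, Matrix.smul_apply, smul_eq_mul, eq_add_iff (x := y)]
  split_ifs with h
  · rw [h, map_add, sg_add]
  · simp

omit [Fintype U] in
theorem R_tr (u : U) : (R β u)ᵀ = sg (β u u) • R β u := by
  ext x y
  simp only [R, of_apply, transpose_apply, Matrix.smul_apply, smul_eq_mul, eq_add_iff (x := y)]
  split_ifs with h
  · rw [h, map_add, LinearMap.add_apply, sg_add]
  · simp

theorem L_sq (u : U) : L β u * L β u = sg (β u u) • 1 := by rw [L_L, add_self, L_zero]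

theorem L_tr_mul (u : U) : (L β u)ᵀ * L β u = 1 := by rw [L_tr, smul_mul, L_sq, smul_smul, sg_sq, one_smul]

theorem L_comm (u v : U) : L β u * L β v = sg (β u v + β v u) • (L β v * L β u) := by
  rw [L_L, L_L, smul_smul, sg_add, mul_assoc, sg_sq, mul_one, add_comm]

omit [Fintype U] in
theorem L_inj {u v : U} {c : ℝ} (h : L β u = c • L β v) : u = v := by
  by_contra hn
  simpa [L, hn] using congrFun (congrFun h u) 0

variable {β} (hβ : ∀ u, (∀ v, β u v + β v u = 0) → u = 0)
include hβ

theorem scalar {T : Matrix U U ℝ} (h1 : ∀ v, T * R β v = R β v * T) (h2 : ∀ v, T * L β v = L β v * T) : T = T 0 0 • 1 := by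
  have h3 : ∀ x, x ≠ 0 → T x 0 = 0 := fun x hx => by
    by_contra hn
    refine hx (hβ x fun v => ?_)
    have h3 := congrFun (congrFun (h1 v) (v + x)) 0
    have h4 := congrFun (congrFun (h2 v) (v + x)) 0
    simp only [mul_L, mul_R, L_mul, R_mul, ← add_assoc, add_self, zero_add, map_zero, LinearMap.zero_apply, sg_zero] at h3 h4
    rw [← sg_eq_one, sg_add, mul_right_cancel₀ hn (h3.symm.trans h4), sg_sq]
  ext x y
  have h4 := congrFun (congrFun (h1 y) x) 0
  rw [mul_R, R_mul, add_zero, map_zero, LinearMap.zero_apply, sg_zero, mul_one] at h4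
  by_cases h : x = y
  · subst h; simpa [add_self] using h4
  · rw [h4, h3 _ fun e => h (by rw [eq_add_iff.1 e.symm, add_zero])]; simp [h]

theorem eq_L {T : Matrix U U ℝ} (h0 : Tᵀ * T = 1) (h1 : ∀ v, T * R β v = R β v * T)
    (h2 : ∀ v, ∃ a, T * L β v = sg a • (L β v * T)) : ∃ w a, T = sg a • L β w := by
  obtain ⟨w, hw⟩ : ∃ w, T w 0 ≠ 0 := by
    by_contra! h
    simpa [mul_apply, h] using congrFun (congrFun h0 0) 0
  have h3 : (L β w * T) 0 0 ≠ 0 := by
    rw [L_mul, add_zero]; exact mul_ne_zero (fun e => by simpa [e] using sg_sq (β w w)) hw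
  have h4 : ∀ v, L β w * T * R β v = R β v * (L β w * T) := fun v => by rw [mul_assoc, h1, ← mul_assoc, L_R, mul_assoc]
  have h5 := scalar hβ h4 fun v => by
    obtain ⟨a, ha⟩ := h2 v
    have h5 : L β w * T * L β v = (sg a * sg (β w v + β v w)) • (L β v * (L β w * T)) := by
      rw [mul_assoc, ha, mul_smul_comm, ← mul_assoc, L_comm, smul_mul, smul_smul, mul_assoc]
    have h6 := congrFun (congrFun (h4 v) v) 0
    have h7 := congrFun (congrFun h5 v) 0
    generalize L β w * T = S at *
    simp only [mul_L, mul_R, L_mul, R_mul, add_self, map_zero, LinearMap.zero_apply, sg_zero, Matrix.smul_apply, smul_eq_mul, add_zero,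
      mul_one, one_mul] at h6 h7
    rw [h5, mul_right_cancel₀ h3 (h7.symm.trans (h6.trans (one_mul _).symm)), one_smul]
  generalize (L β w * T) 0 0 = c at h5
  have h6 : T = c • (L β w)ᵀ := by rw [← one_mul T, ← L_tr_mul β w, mul_assoc, h5, mul_smul_comm, mul_one]
  rw [h6, transpose_smul, transpose_transpose, smul_mul, mul_smul_comm, mul_eq_one_comm.1 (L_tr_mul β w), smul_smul] at h0
  have h7 : c * c = 1 := by simpa using congrFun (congrFun h0 0) 0
  obtain ⟨a, rfl⟩ : ∃ a, c = sg a := (mul_self_eq_one_iff.1 h7).elim (fun e => ⟨0, e.trans sg_zero.symm⟩) fun e => ⟨1, e⟩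
  exact ⟨w, _, by rw [h6, L_tr, smul_smul, ← sg_add]⟩

theorem exists_lift {k : U → U} (hk : ∀ u v, β (k u) (k v) + β (k v) (k u) = β u v + β v u) (hq : ∀ u, β (k u) (k u) = β u u) :
    ∃ T : Matrix U U ℝ, Tᵀ * T = 1 ∧ (∀ v, T * R β v = R β v * T) ∧ ∀ v, ∃ a, T * L β v = sg a • (L β (k v) * T) := by
  have key : ∀ s : Finset U, ∃ T : Matrix U U ℝ, T ≠ 0 ∧ (∀ v, T * R β v = R β v * T) ∧
      ∀ v ∈ s, ∃ a, T * L β v = sg a • (L β (k v) * T) := fun s => by
    induction s using Finset.induction_on with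
    | empty => exact ⟨1, one_ne_zero, by simp, by simp⟩
    | insert u s _ ih =>
      obtain ⟨T, h0, h1, h2⟩ := ih
      have h3 : L β (k u) * T * L β u * L β u = sg (β u u) • (L β (k u) * T) := by rw [mul_assoc, L_sq, mul_smul_comm, mul_one]
      by_cases h : T + L β (k u) * T * L β u = 0
      · refine ⟨T, h0, h1, Finset.forall_mem_insert _ _ _ |>.2 ⟨⟨β u u + 1, ?_⟩, h2⟩⟩
        rw [eq_neg_of_add_eq_zero_left h, neg_mul, h3, ← eq_neg_of_add_eq_zero_left h, sg_add, show sg 1 = -1 from rfl]
        simp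
      refine ⟨_, h, fun v => by rw [add_mul, mul_add, h1, mul_assoc, L_R, ← mul_assoc, mul_assoc _ T, h1, ← mul_assoc, L_R]; simp [mul_assoc],
        Finset.forall_mem_insert _ _ _ |>.2 ⟨⟨β u u, ?_⟩, fun v hv => ?_⟩⟩
      · rw [add_mul, mul_add, h3, ← mul_assoc, ← mul_assoc, L_sq, hq, smul_add, smul_mul, smul_mul, smul_smul, sg_sq, one_mul, one_smul,
          add_comm]
      · obtain ⟨a, ha⟩ := h2 v hv
        refine ⟨a, ?_⟩
        rw [add_mul, mul_add, smul_add, ha, mul_assoc, L_comm, ← hk, mul_smul_comm, ← mul_assoc, mul_assoc _ T, ha, mul_smul_comm,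
          ← mul_assoc, L_comm]
        simp only [smul_mul, smul_smul, mul_assoc]
        rw [mul_left_comm, sg_sq, mul_one]
  obtain ⟨T, h0, h1, h2⟩ := key Finset.univ
  have h3 := scalar hβ (T := Tᵀ * T) (fun v => by
    have := congrArg transpose (h1 v)
    rw [transpose_mul, transpose_mul, R_tr, smul_mul, mul_smul_comm] at this
    rw [mul_assoc, h1, ← mul_assoc, ← smul_right_injective _ (fun e => by simpa [e] using sg_sq (β v v)) this, mul_assoc]) fun v => by
      obtain ⟨a, ha⟩ := h2 v (Finset.mem_univ v)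
      have := congrArg transpose ha
      rw [transpose_smul, transpose_mul, transpose_mul, L_tr, L_tr, hq, smul_mul, mul_smul_comm, smul_comm] at this
      rw [mul_assoc, ha, ← mul_assoc (L β v), smul_right_injective _ (fun e => by simpa [e] using sg_sq (β v v)) this]
      simp [mul_assoc]
  have h4 : 0 ≤ (Tᵀ * T) 0 0 := Finset.sum_nonneg fun _ _ => mul_self_nonneg _
  generalize (Tᵀ * T) 0 0 = c at h3 h4
  have h5 : c ≠ 0 := fun e => h0 (conjTranspose_mul_self_eq_zero.1 (by simpa [e] using h3))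
  refine ⟨(√c)⁻¹ • T, ?_, fun v => by simp [h1], fun v => (h2 v (Finset.mem_univ v)).imp fun a ha => by
    rw [smul_mul, ha, mul_smul_comm, smul_comm]⟩
  rw [transpose_smul, smul_mul, mul_smul_comm, h3, smul_smul, smul_smul, ← mul_inv, Real.mul_self_sqrt h4, inv_mul_cancel₀ h5,
    one_smul]

end Cfsg.Lib.PGrp.Cliff
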