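import Cfsg.Agent.Lib.Max.R2
import Cfsg.Agent.Lib.Conj.Syl

/-! Derived lengths of Sylow subgroups of symmetric and general linear groups. -/

set_option autoImplicit false
set_option linter.unusedSectionVars false
set_option linter.style.haveILetI false

open Cfsg Cfsg.Lib.Amalg Cfsg.Lib.Block2.SylEA Cfsg.Lib.Forms.R2 Subgroup Equiv
open scoped commutatorElement

namespace Cfsg.Lib.DerL

variable {G H B : Type*} [Group G] [Group H] [Group B] {p k : ℕ} [hp : Fact p.Prime]

theorem dS_of_syl [Finite G] {T : Subgroup G} (hT : Syl p T ⊤) (h : dS T k = ⊥) {P : Subgroup G}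
    (hP : IsPGroup p P) : dS P k = ⊥ := by
  obtain ⟨g, -, h3⟩ := hT.exists_conj_le hP le_top
  have h5 := dS_mono h3 k
  rw [h, le_bot_iff] at h5
  exact (map_eq_bot_iff_of_injective _ (MulAut.conj g).injective).1 ((dS_map _ _ _).trans h5)

theorem val_fact : padicValNat p p.factorial = 1 := by
  simpa using padicValNat_factorial_mul (p := p) 1

theorem exists_syl_perm_dS (p : ℕ) [hp : Fact p.Prime] (n : ℕ) :
    ∃ T : Subgroup (Perm (Fin n)), Syl p T ⊤ ∧ dS T (Nat.log p n) = ⊥ := by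
  induction n using Nat.strong_induction_on with | _ n ih => ?_
  by_cases hn : n < p
  · obtain ⟨T, hT⟩ := exists_syl p (⊤ : Subgroup (Perm (Fin n)))
    refine ⟨T, hT, ?_⟩
    rw [Nat.log_of_lt hn, dS, ← Subgroup.card_eq_one, card_syl hT, Nat.card_perm, Nat.card_fin,
      padicValNat.eq_zero_of_not_dvd (by rw [hp.out.dvd_factorial]; omega), pow_zero]
  have h2 := hp.out.one_lt
  obtain ⟨T, hT, h⟩ := ih (n / p) (Nat.div_lt_self (by omega) h2)
  obtain ⟨S, hS⟩ := exists_syl p (⊤ : Subgroup (Perm (Fin p)))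
  have : NeZero p := ⟨hp.out.ne_zero⟩
  have hW := (wr_perm (Fin p) (Fin (n / p))).syl hS hT (by
    simp [Fintype.card_perm, padicValNat_factorial_mul, val_fact, add_comm])
  obtain ⟨e⟩ : Nonempty (Fin p × Fin (n / p) ↪ Fin n) :=
    Function.Embedding.nonempty_of_card_le (by simpa using Nat.mul_div_le n p)
  classical
  refine ⟨_, syl_map hW (Perm.extendDomainHom_injective (Equiv.ofInjective e e.injective))
    (by simp [Fintype.card_perm]), ?_⟩
  rw [← dS_map, Nat.log_of_one_lt_of_le h2 (by omega),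
    dS_wr_eq_bot (wr_perm _ _) h (l := 1) ?_, Subgroup.map_bot]
  haveI : IsCyclic S := isCyclic_of_prime_card (p := p) (by
    rw [card_syl hS, Nat.card_perm, Nat.card_fin, val_fact, pow_one])
  refine eq_bot_iff.2 (commutator_le.2 fun x hx y hy => commutatorElement_eq_one_iff_mul_comm.2 ?_)
  exact congrArg Subtype.val (IsCyclic.isMulCommutative.is_comm.comm (⟨x, hx⟩ : S) ⟨y, hy⟩)

theorem perm_dS {n : ℕ} {P : Subgroup (Perm (Fin n))} (hP : IsPGroup p P) : dS P (Nat.log p n) = ⊥ :=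
  let ⟨_, h1, h2⟩ := exists_syl_perm_dS p n
  dS_of_syl h1 h2 hP

/-- There is a `p`-subgroup of derived length more than `k`. -/
def DLp (p k : ℕ) (G : Type*) [Group G] : Prop := ∃ P : Subgroup G, IsPGroup p P ∧ dS P k ≠ ⊥

omit hp in
theorem DLp.of_inj (h : DLp p k G) {f : G →* H} (hf : Function.Injective f) : DLp p k H := by
  obtain ⟨P, h1, h2⟩ := h
  exact ⟨P.map f, h1.map f, by rwa [← dS_map, Ne, map_eq_bot_iff_of_injective _ hf]⟩

theorem DLp.sylow [Finite G] (h : DLp p k G) (S : Sylow p G) : derivedSeries (S : Subgroup G) k ≠ ⊥ :=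
  let ⟨_, h1, h2⟩ := h
  fun h4 => h2 (dS_of_syl (syl_top S) (dS_eq_bot_iff.2 h4) h1)

theorem dLp_zero [Finite G] (h : p ∣ Nat.card G) : DLp p 0 G := by
  obtain ⟨x, hx⟩ := exists_prime_orderOf_dvd_card' p h
  refine ⟨zpowers x, isPGroup_zpowers_of_orderOf (k := 1) (by simpa using hx), ?_⟩
  rw [dS, Ne, zpowers_eq_bot]
  rintro rfl
  exact hp.out.ne_one (hx.symm.trans orderOf_one)

theorem DLp.wreath [Finite B] {β : (Fin p → B) →* G} {π : Perm (Fin p) →* G} (h : Wr β π)
    (hB : DLp p k B) : DLp p (k + 1) G := by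
  obtain ⟨S, hS, h0⟩ := hB
  have h1 : IsPGroup p (Subgroup.pi Set.univ fun _ : Fin p => S) := by
    obtain ⟨k, hk⟩ := IsPGroup.iff_card.1 hS
    refine isPGroup_iff_mem.2 fun f hf => ⟨k, funext fun i => ?_⟩
    have := pow_card_eq_one' (x := (⟨f i, hf i trivial⟩ : S))
    rw [hk] at this
    exact congrArg Subtype.val this
  obtain ⟨T, h2, hT⟩ := dLp_zero (p := p) (G := Perm (Fin p)) (by
    rw [Nat.card_perm, Nat.card_fin, hp.out.dvd_factorial])
  obtain ⟨⟨σ, hσ⟩, hσ1⟩ := ne_bot_iff_exists_ne_one.1 hT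
  obtain ⟨i, hi⟩ : ∃ i, σ i ≠ i := by
    by_contra! H
    exact hσ1 (Subtype.ext (Equiv.ext H))
  refine ⟨wr β π S T, (h1.map β).to_sup_of_normal_left' (h2.map π) (wr_norm h S T), fun h3 => h0 ?_⟩
  have h4 : S ≤ ((dS (wr β π S T) 1).comap β).map (Pi.evalMonoidHom (fun _ => B) i) := fun x hx => by
    refine ⟨Pi.mulSingle i x * Pi.mulSingle (σ i) x⁻¹, ?_, by simp [hi.symm]⟩
    have := commutator_mem_commutator (single_mem_wr (β := β) (π := π) (T := T) i hx)
      (top_mem_wr (β := β) (π := π) (S := S) hσ)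
    rwa [commutatorElement_def, mul_assoc, mul_assoc, ← mul_assoc (π _), ← map_inv β,
      ← Pi.mulSingle_inv, h.conj_single, ← map_mul] at this
  refine eq_bot_iff.2 ((dS_mono h4 k).trans ?_)
  have h5 : dS ((dS (wr β π S T) 1).comap β) k = ⊥ := by
    refine (map_eq_bot_iff_of_injective _ (wr_inj h)).1 (eq_bot_iff.2 ?_)
    rw [dS_map, ← h3, add_comm, dS_add]
    exact dS_mono (map_comap_le _ _) k
  rw [← dS_map, h5, Subgroup.map_bot]

theorem perm_DL (k n : ℕ) (h : p ^ (k + 1) ≤ n) : DLp p k (Perm (Fin n)) := by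
  induction k generalizing n with
  | zero => exact dLp_zero (by rw [Nat.card_perm, Nat.card_fin, hp.out.dvd_factorial]; simpa using h)
  | succ k ih =>
    have h1 : p ^ (k + 1) ≤ n / p := (Nat.le_div_iff_mul_le hp.out.pos).2 (by rwa [← pow_succ])
    haveI : Nonempty (Fin (n / p)) := ⟨⟨0, (pow_pos hp.out.pos _).trans_le h1⟩⟩
    obtain ⟨e⟩ : Nonempty (Fin (n / p) × Fin p ↪ Fin n) :=
      Function.Embedding.nonempty_of_card_le (by simpa using Nat.div_mul_le_self n p)
    classical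
    exact ((ih _ h1).wreath (wr_perm _ _)).of_inj
      (Perm.extendDomainHom_injective (Equiv.ofInjective e e.injective))

section Lin
open Matrix Cfsg.Lib.Conj Cfsg.Lib.Known Cfsg.Lib.Linear
variable {F : Type*} [Field F]

omit hp in
theorem emb_GL (a b n : ℕ) (h : a * b ≤ n) :
    ∃ f : GL (Fin a × Fin b) F →* GL (Fin n) F, Function.Injective f := by
  obtain ⟨r, rfl⟩ := Nat.exists_eq_add_of_le h
  exact ⟨((glBlk F _ r).comp (MonoidHom.inl _ _)).comp (glReindex finProdFinEquiv).toMonoidHom,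
    ((glBlk_injective _ r).comp fun x y h => congrArg Prod.fst h).comp (glReindex _).injective⟩

variable [Finite F]

theorem val_GL (h2 : p ≠ 2) (hq : ¬ p ∣ Nat.card F) {ι : Type*} [Fintype ι] [DecidableEq ι] :
    padicValNat p (Nat.card (GL ι F)) = (Fintype.card ι / orderOf (Nat.card F : ZMod p)) *
      padicValNat p (Nat.card F ^ orderOf (Nat.card F : ZMod p) - 1) +
      padicValNat p (Fintype.card ι / orderOf (Nat.card F : ZMod p)).factorial := by
  have h1 : 1 < Nat.card F := two_le_card_field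
  have h3 : ∀ i, Nat.card F ^ (i + 1) - 1 ≠ 0 := fun i =>
    Nat.sub_ne_zero_of_lt (Nat.one_lt_pow (by omega) h1)
  have he := orderOf_cast_pos hq
  rw [card_GL', val_pow_mul hq _ (Finset.prod_ne_zero_iff.2 fun i _ => h3 i)]
  set q := Nat.card F
  set e := orderOf (q : ZMod p) with hee
  induction Fintype.card ι with
  | zero => simp
  | succ n ih =>
    rw [Finset.prod_range_succ, padicValNat.mul (Finset.prod_ne_zero_iff.2 fun i _ => h3 i) (h3 n), ih,
      Nat.succ_div]
    split_ifs with h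
    · obtain ⟨j, hj⟩ := h
      have hj0 : j ≠ 0 := by rintro rfl; simp at hj
      have h4 : n / e + 1 = j := by
        have := Nat.succ_div (a := n) (b := e)
        rw [if_pos ⟨j, hj⟩] at this
        rw [← this, hj, Nat.mul_div_cancel_left _ he]
      have h5 := padicValNat.pow_sub_pow (p := p) (x := q ^ e) (y := 1) (hp.out.odd_of_ne_two h2)
        (Nat.one_lt_pow he.ne' h1) ((dvd_pow_sub_one_iff' h1 _).2 dvd_rfl)
        (fun h => hq (hp.out.dvd_of_dvd_pow h)) hj0
      rw [one_pow, ← pow_mul, ← hj] at h5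
      rw [h5, Nat.factorial_succ, padicValNat.mul (by simp) (Nat.factorial_ne_zero _), h4, ← h4]
      ring
    · rw [padicValNat.eq_zero_of_not_dvd (n := q ^ (n + 1) - 1) (by rwa [dvd_pow_sub_one_iff' h1])]
      simp

theorem gl_dS (h2 : p ≠ 2) (hq : ¬ p ∣ Nat.card F) {n : ℕ} {P : Subgroup (GL (Fin n) F)}
    (hP : IsPGroup p P) : dS P (Nat.log p (n / orderOf (Nat.card F : ZMod p)) + 1) = ⊥ := by
  have he := orderOf_cast_pos hq
  have hv := fun (ι : Type) [Fintype ι] [DecidableEq ι] => val_GL h2 hq (ι := ι)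
  set e := orderOf (Nat.card F : ZMod p)
  haveI : NeZero e := ⟨he.ne'⟩
  obtain ⟨T, hT, h⟩ := exists_syl_perm_dS p (n / e)
  obtain ⟨S, hS⟩ := exists_syl p (⊤ : Subgroup (FExt F e)ˣ)
  have hw := (wr_mat (F := F) (κ := Fin e) (ι := Fin (n / e))).comp (singer_injective (F := F) (n := e))
  have hW := hw.syl hS hT (by
    rw [hv, card_units_eq, card_FExt]; simp [Nat.mul_div_cancel_left _ he])
  obtain ⟨f, hf⟩ := emb_GL (F := F) e (n / e) n (Nat.mul_div_le n e)
  refine dS_of_syl (syl_map hW hf (by rw [hv, hv]; simp [Nat.mul_div_cancel_left _ he])) ?_ hP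
  rw [← dS_map, dS_wr_eq_bot hw h (l := 1) ?_, Subgroup.map_bot]
  exact eq_bot_iff.2 (commutator_le.2 fun x _ y _ => commutatorElement_eq_one_iff_mul_comm.2 (mul_comm _ _))

theorem gl_DL (hq : ¬ p ∣ Nat.card F) (k n : ℕ) (h : p ^ k ≤ n / orderOf (Nat.card F : ZMod p)) :
    DLp p k (GL (Fin n) F) := by
  have he := orderOf_cast_pos hq
  have h1 : 1 < Nat.card F := two_le_card_field
  induction k generalizing n with
  | zero =>
    refine dLp_zero ?_
    rw [pow_zero, Nat.le_div_iff_mul_le he, one_mul] at h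
    rw [card_GL', Fintype.card_fin]
    refine Dvd.dvd.mul_left (dvd_trans ?_ (Finset.dvd_prod_of_mem _ (a := orderOf (Nat.card F : ZMod p) - 1)
      (Finset.mem_range.2 (by omega)))) _
    rw [dvd_pow_sub_one_iff' h1, Nat.sub_add_cancel he]
  | succ k ih =>
    have h2 : p ^ k ≤ n / p / orderOf (Nat.card F : ZMod p) := by
      rw [Nat.div_div_eq_div_mul, mul_comm, ← Nat.div_div_eq_div_mul]
      exact (Nat.le_div_iff_mul_le hp.out.pos).2 (by rwa [← pow_succ])
    haveI : Nonempty (Fin (n / p)) :=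
      ⟨⟨0, ((pow_pos hp.out.pos _).trans_le h2).trans_le (Nat.div_le_self _ _)⟩⟩
    obtain ⟨f, hf⟩ := emb_GL (F := F) (n / p) p n (Nat.div_mul_le_self n p)
    exact ((ih _ h2).wreath wr_mat).of_inj hf

end Lin

end Cfsg.Lib.DerL
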