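import Cfsg.Agent.Lib.Core.UpperP
import Cfsg.Agent.Lib.Core.Frattini
import Cfsg.Agent.Lib.Coprime.Action
import Cfsg.Agent.Lib.Hall.SZConj

/-! Groups whose maximal subgroups are `p`-nilpotent or of prime index. -/

set_option autoImplicit false
set_option linter.style.haveILetI false
set_option linter.unusedSectionVars false

namespace Cfsg.Lib.PGrp

open Cfsg Subgroup Cfsg.Lib.Core

universe u
variable {p : ℕ} {G : Type u} [Group G] [Finite G]

theorem upper_of_inf_eq_bot (n : ℕ) (M N : Subgroup G) [M.Normal] [N.Normal] (h : M ⊓ N = ⊥)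
    (hM : (upperPSeries p (G ⧸ M) n).1 = ⊤) (hN : (upperPSeries p (G ⧸ N) n).1 = ⊤) :
    (upperPSeries p G n).1 = ⊤ := by
  have := le_upperPSeries_of_chain (p := p) 0
    (fun i => (upperPSeries p (G ⧸ M) i).1.comap (QuotientGroup.mk' M) ⊓
      (upperPSeries p (G ⧸ N) i).1.comap (QuotientGroup.mk' N)) (fun i => inferInstance)
    (by simp [upperPSeries_zero, h]) (fun i => by
      rw [zero_add, ← relIndex_inf_mul_relIndex]
      refine ((pStep_upperPSeries (G := G ⧸ M) i).of_dvd ?_).mul
        ((pStep_upperPSeries (G := G ⧸ N) i).of_dvd ?_)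
      · exact (relIndex_dvd_relIndex_of_le_right _ (inf_le_right.trans inf_le_left)).trans
          (relIndex_comap_dvd _ _ _)
      · exact (relIndex_dvd_relIndex_of_le_right _ inf_le_right).trans (relIndex_comap_dvd _ _ _)) n
  rwa [hM, hN, comap_top, comap_top, top_inf_eq, top_le_iff, zero_add] at this

theorem pPrimeCore_quotient_of_le_frattini [hp : Fact p.Prime] (hO : pPrimeCore p G = ⊥)
    (N : Subgroup G) [N.Normal] (hN : IsPGroup p N) (hF : N ≤ frattini G) :
    pPrimeCore p (G ⧸ N) = ⊥ := by
  set K := (pPrimeCore p (G ⧸ N)).comap (QuotientGroup.mk' N) with hK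
  have hc := coprime_card_pPrimeCore p (G ⧸ N)
  obtain ⟨H, h1, -, h3, h4⟩ := Hall.sz_exists_internal (N := N) (L := K) (le_comap_mk' N _)
    (le_normalizer_of_normal) (by
      rw [hK, relIndex_comap_mk']; exact coprime_card_of_isPGroup hp.out hN hc)
  rw [hK, relIndex_comap_mk'] at h4
  have h5 : H.map (QuotientGroup.mk' N) = pPrimeCore p (G ⧸ N) := by
    rw [← map_comap_mk' N (pPrimeCore p (G ⧸ N)), ← hK, ← h3, Subgroup.map_sup,
      (map_mk'_eq_bot_iff N N).2 le_rfl, bot_sup_eq]
  have h6 := Coprime.map_mk'_normalizer N (A := H)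
    (h4 ▸ (coprime_card_of_isPGroup hp.out hN hc).symm) (Or.inr (Coprime.isSolvable_of_isPGroup hN))
  rw [h5, normalizer_eq_top (H := pPrimeCore p (G ⧸ N))] at h6
  have h7 : normalizer (H : Set G) = ⊤ := by
    refine frattini_nongenerating (top_le_iff.1 ?_)
    rw [← comap_top (QuotientGroup.mk' N), ← h6, comap_map_mk', sup_comm]
    exact sup_le_sup_left hF _
  haveI := normalizer_eq_top_iff.1 h7
  rw [← h5, eq_bot_of_pPrimeCore_eq_bot hO (N := H) (h4 ▸ hc), Subgroup.map_bot]

theorem upper_of_le_frattini [hp : Fact p.Prime] (hO : pPrimeCore p G = ⊥)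
    (N : Subgroup G) [N.Normal] (hN : IsPGroup p N) (hF : N ≤ frattini G) (n : ℕ)
    (h : (upperPSeries p (G ⧸ N) (2 + n)).1 = ⊤) : (upperPSeries p G (2 + n)).1 = ⊤ := by
  have := le_upperPSeries_of_chain (p := p) 2
    (fun i => (upperPSeries p (G ⧸ N) (2 + i)).1.comap (QuotientGroup.mk' N)) (fun i => inferInstance)
    (by
      rw [add_zero, upperPSeries_two, upperPSeries_two, pPrimePCore_eq_pCore hO,
        pPrimePCore_eq_pCore (pPrimeCore_quotient_of_le_frattini hO N hN hF),
        comap_pCore_quotient N hN])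
    (fun i => by
      rw [relIndex_comap_comap_of_surjective (QuotientGroup.mk'_surjective N)]
      exact pStep_upperPSeries _) n
  rwa [h, comap_top, top_le_iff] at this

theorem upper_top_of_surjective {G' : Type*} [Group G'] {f : G →* G'} (hf : Function.Surjective f)
    {n : ℕ} (h : (upperPSeries p G n).1 = ⊤) : (upperPSeries p G' n).1 = ⊤ := by
  have := map_upperPSeries_le_of_surjective (p := p) hf n
  rwa [h, Subgroup.map_top_of_surjective f hf, top_le_iff] at this

theorem upper_two_of_compl [hp : Fact p.Prime] (K : Subgroup G) [K.Normal] (h : ¬ p ∣ Nat.card K) {k : ℕ}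
    (hk : K.index = p ^ k) : (upperPSeries p G 2).1 = ⊤ := by
  refine top_le_iff.1 (le_upperPSeries_succ_iff.2 ((pStep_odd (by decide)).2 ⟨k, ?_⟩))
  rw [relIndex_top_right, ← hk, upperPSeries_one]
  exact index_dvd_of_le (le_pPrimeCore ((hp.out.coprime_iff_not_dvd.2 h).symm))

theorem upper_four_top [hp : Fact p.Prime] : ∀ (n : ℕ) (G : Type u) [Group G] [Finite G],
    Nat.card G = n → IsPSolvable p G →
    (∀ M : Subgroup G, IsCoatom M → (upperPSeries p M 2).1 = ⊤ ∨ M.index.Prime) →
    (upperPSeries p G 4).1 = ⊤ := by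
  intro n
  induction n using Nat.strong_induction_on with
  | _ n ih =>
  intro G _ _ hn hs hm
  have quo : ∀ (N : Subgroup G) [N.Normal], N ≠ ⊥ → (upperPSeries p (G ⧸ N) 4).1 = ⊤ := by
    intro N _ hN
    refine ih _ (hn ▸ card_quotient_lt hN) _ rfl (isPSolvable_quotient hp.out hs N) fun M hM => ?_
    have hf := QuotientGroup.mk'_surjective N
    rcases hm _ (isCoatom_comap_of_surjective hf hM) with h | h
    · exact Or.inl (upper_top_of_surjective
        (MonoidHom.subgroupComap_surjective_of_surjective _ M hf) h)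
    · exact Or.inr (by rwa [index_comap_of_surjective _ hf] at h)
  rcases subsingleton_or_nontrivial G with h0 | h0
  · exact Subsingleton.elim _ _
  by_cases hO : pPrimeCore p G = ⊥
  swap
  · have := comap_upperPSeries_succ_le_of_surjective (p := p)
      (QuotientGroup.mk'_surjective (pPrimeCore p G)) (m := 0) (by decide)
      (by rw [QuotientGroup.ker_mk', zero_add, upperPSeries_one]) 3
    rwa [quo _ hO, comap_top, top_le_iff] at this
  obtain ⟨N, hNn, hN0, hNle, hmin⟩ := exists_minimal_normal_le (pCore p G)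
    ((pCore_ne_bot_or_of_isPSolvable hp.out hs).resolve_right (not_not.2 hO))
  have hN : IsPGroup p N := (isPGroup_pCore p G).to_le hNle
  by_cases hF : N ≤ frattini G
  · exact upper_of_le_frattini hO N hN hF 2 (quo N hN0)
  obtain ⟨M, hM, hNM⟩ : ∃ M : Subgroup G, IsCoatom M ∧ ¬ N ≤ M := by
    by_contra hc
    push Not at hc
    exact hF (le_frattini_iff.2 hc)
  have hsup : N ⊔ M = ⊤ := hM.2 _ (right_lt_sup.2 hNM)
  have key : (upperPSeries p M 2).1 = ⊤ → (upperPSeries p G 4).1 = ⊤ := fun h => by
    have hf : Function.Surjective ((QuotientGroup.mk' N).comp M.subtype) := by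
      rw [← MonoidHom.range_eq_top, MonoidHom.range_comp, range_subtype, ← top_le_iff,
        ← Subgroup.map_top_of_surjective _ (QuotientGroup.mk'_surjective N), map_mk'_le_map_mk'_iff, hsup]
    have := comap_upperPSeries_le_of_surjective (p := p) (QuotientGroup.mk'_surjective N) (m := 2)
      (by decide) (by
        rw [QuotientGroup.ker_mk', upperPSeries_two]; exact hNle.trans pCore_le_pPrimePCore) 2
    rwa [upper_top_of_surjective hf h, comap_top, top_le_iff] at this
  refine (hm M hM).elim key fun hpr => ?_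
  haveI := Coprime.isSolvable_of_isPGroup hN
  haveI := Hall.isMulCommutative_of_minNormal hmin
  have hNC : N ≤ centralizer (N : Set G) := le_centralizer N
  have hinf : N ⊓ M = ⊥ := by
    refine (hmin _ (normalizer_eq_top_iff.1 (top_le_iff.1 ?_)) inf_le_left).resolve_right
      fun h => hNM (h ▸ inf_le_right)
    rw [← hsup]
    exact sup_le (hNC.trans ((centralizer_anti inf_le_left).trans (centralizer_le_normalizer _)))
      (le_normalizer_inf le_normalizer_of_normal le_normalizer)
  have hcard : Nat.card N = M.index := (Hall.isComplement'_of_normal hinf hsup).index_eq_card.symm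
  have hp' : Nat.card N = p :=
    ((Nat.prime_dvd_prime_iff_eq hp.out (hcard ▸ hpr)).1
      (dvd_card_of_isPGroup_of_ne_bot hp.out hN hN0)).symm
  by_cases hC : M ⊓ centralizer (N : Set G) = ⊥
  · haveI : IsCyclic N := isCyclic_of_prime_card hp'
    have hi : Function.Injective (Coprime.conjAut (A := M) (K := N) le_normalizer_of_normal) := by
      rw [← MonoidHom.ker_eq_bot_iff, Coprime.ker_conjAut, subgroupOf_eq_bot, disjoint_iff, inf_comm, hC]
    have hd := card_dvd_of_injective _ hi
    rw [IsCyclic.card_mulAut, hp', Nat.totient_prime hp.out] at hd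
    refine key (upper_two_of_compl ⊤ (fun h => ?_) (k := 0) (by simp))
    rw [card_top] at h
    have := Nat.le_of_dvd (by have := hp.out.two_le; omega) (h.trans hd)
    have := hp.out.two_le
    omega
  · haveI : (M ⊓ centralizer (N : Set G)).Normal := by
      refine normalizer_eq_top_iff.1 (top_le_iff.1 ?_)
      rw [← hsup]
      exact sup_le ((le_centralizer_iff.1 inf_le_right).trans (centralizer_le_normalizer _))
        (le_normalizer_inf le_normalizer le_normalizer_of_normal)
    exact upper_of_inf_eq_bot 4 N _ (by rw [← inf_assoc, hinf, bot_inf_eq]) (quo N hN0) (quo _ hC)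

end Cfsg.Lib.PGrp
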