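import Cfsg.Agent.Lib.ABG.Idx2
import Cfsg.Agent.Lib.Hall.FC6
import Cfsg.Agent.Lib.BG1.Amb
import Cfsg.Agent.Lib.PGrp.MaxClass
import Cfsg.Agent.Lib.Known2.LE
import Cfsg.Agent.Lib.KS9.Plane

/-! 2-groups with an odd group of operators all of whose proper invariant subgroups have no non-cyclic abelian
subgroup of order eight. -/

set_option autoImplicit false

namespace Cfsg.Lib.Min8

open Subgroup Cfsg.Lib Cfsg.Lib.Amalg Cfsg.Lib.Known2
open scoped commutatorElement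

variable {G : Type*} [Group G] [Finite G]

/-- `Y` has a non-cyclic abelian subgroup of order eight -/
def Good (Y : Subgroup G) : Prop := ∃ A ≤ Y, IsMulCommutative A ∧ ¬ IsCyclic A ∧ Nat.card A = 8

/-- at most one involution -/
def Uniq (Y : Subgroup G) : Prop := ∀ s ∈ Y, ∀ t ∈ Y, orderOf s = 2 → orderOf t = 2 → s = t

omit [Finite G] in
theorem Good.mono {Y T : Subgroup G} (h : Good Y) (hT : Y ≤ T) : Good T := by
  obtain ⟨A, h1, h2⟩ := h; exact ⟨A, h1.trans hT, h2⟩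

theorem good_of {B : Subgroup G} (hB : IsPGroup 2 B) (hc : B ≤ 𝐂 B) (h : ¬ Uniq B) (h8 : 8 ≤ Nat.card B) : Good B := by
  haveI := Invol.fact_two
  simp only [Uniq, not_forall] at h
  obtain ⟨s, hs, t, ht, s2, t2, h⟩ := h
  have h1 := (Invol.isKleinFour_closure s2 t2 h (hc ht s hs)).card_four
  have h2 : closure {s, t} ≤ B := (closure_le _).2 (by rintro _ (rfl | rfl) <;> assumption)
  obtain ⟨L, h3, h4, -, h5, -⟩ := PGrp.exists_card_eq_mul_of_normalizes hB (lt_of_le_of_ne h2 fun e => by rw [e] at h1; omega)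
    le_rfl ((hc.trans (Core.centralizer_anti h2)).trans (cent_le_norm _)) le_normalizer
  exact ⟨L, h4, isMulCommutative_of_le_cent h4 (h4.trans hc), fun h6 => h (Invol.eq_of_isCyclic h6
    (h3 (subset_closure (by simp))) (h3 (subset_closure (by simp))) s2 t2), by omega⟩

omit [Finite G] in
theorem sup_comm {A : Subgroup G} (hc : A ≤ 𝐂 A) {y : G} (hy : y ∈ 𝐂 A) : A ⊔ zpowers y ≤ 𝐂 (A ⊔ zpowers y) := by
  rw [Core.centralizer_sup]
  exact le_inf (sup_le hc (zpowers_le.2 hy)) (le_centralizer_iff.1 (zpowers_le.2 (by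
    rw [Core.centralizer_sup]; exact ⟨hy, mem_cent_zpowers.2 rfl⟩)))

theorem card_sup_ge {A Y : Subgroup G} (hY : IsPGroup 2 Y) (hA : A ≤ Y) {y : G} (hy : y ∈ Y) (h : y ∉ A) :
    2 * Nat.card A ≤ Nat.card ↥(A ⊔ zpowers y) :=
  haveI := Invol.fact_two
  KS9.mul_card_le_of_lt (hY.to_le (sup_le hA (zpowers_le.2 hy))) (lt_of_le_of_ne le_sup_left
    fun e => h (e.ge (mem_sup_right (mem_zpowers y))))

theorem good_of' {A Y : Subgroup G} (hY : IsPGroup 2 Y) (hA : A ≤ Y) (hc : A ≤ 𝐂 A) (h4 : 4 ≤ Nat.card A) {y : G} (hy : y ∈ Y)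
    (hy' : y ∈ 𝐂 A) (h : y ∉ A) (hu : ¬ Uniq (A ⊔ zpowers y)) : Good Y :=
  (good_of (hY.to_le (sup_le hA (zpowers_le.2 hy))) (sup_comm hc hy') hu
    (by have := card_sup_ge hY hA hy h; omega)).mono (sup_le hA (zpowers_le.2 hy))

theorem exists_inv {A : Subgroup G} (hA : IsPGroup 2 A) (h : 1 < Nat.card A) : ∃ a ∈ A, orderOf a = 2 := by
  haveI := Invol.fact_two
  obtain ⟨k, hk⟩ := hA.exists_card_eq
  obtain ⟨a, ha⟩ := exists_prime_orderOf_dvd_card' (G := A) 2 (hk ▸ dvd_pow_self 2 (by rintro rfl; omega))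
  exact ⟨a, a.2, by rwa [orderOf_coe]⟩

theorem uniq_or {A Y : Subgroup G} (hY : IsPGroup 2 Y) (hb : ¬ Good Y) (hA : A ≤ Y ⊓ 𝐂 Y) (h4 : 4 ≤ Nat.card A) :
    Uniq Y ∨ (Y ≤ A ∧ Nat.card Y ≤ 4) := by
  haveI := Invol.fact_two
  have h1 := hA.trans inf_le_left
  have h2 := hA.trans inf_le_right
  refine or_iff_not_imp_left.2 fun h => ?_
  by_cases h3 : Y ≤ A
  · refine ⟨h3, ?_⟩
    have h5 : ¬ 8 ≤ Nat.card Y := fun h5 => hb (good_of hY (h3.trans h2) h h5)
    obtain ⟨k, hk⟩ := hY.exists_card_eq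
    rw [hk] at h5 ⊢
    exact Nat.pow_le_pow_right (i := k) (j := 2) two_pos (by
      by_contra h; exact h5 (Nat.pow_le_pow_right (i := 3) two_pos (by omega)))
  obtain ⟨a, ha, a2⟩ := exists_inv (hY.to_le h1) (by omega)
  obtain ⟨s, hs, s2, h5⟩ : ∃ s ∈ Y, orderOf s = 2 ∧ s ≠ a := by
    by_contra! h5
    exact h fun s hs t ht s2 t2 => (h5 s hs s2).trans (h5 t ht t2).symm
  obtain ⟨y, hy, h6, h7⟩ : ∃ y ∈ Y, y ∉ A ∧ s ∈ A ⊔ zpowers y := by
    by_cases h6 : s ∈ A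
    · obtain ⟨y, hy, h7⟩ := SetLike.not_le_iff_exists.1 h3
      exact ⟨y, hy, h7, mem_sup_left h6⟩
    · exact ⟨s, hs, h6, mem_sup_right (mem_zpowers s)⟩
  exact absurd (good_of' hY h1 (h2.trans (Core.centralizer_anti h1)) h4 hy (le_centralizer_iff.1 h2 hy) h6
    fun hu => h5 (hu s h7 a (mem_sup_left ha) s2 a2)) hb

variable {H : Subgroup G}

theorem odd_orderOf (hH : Odd (Nat.card H)) {g : G} (hg : g ∈ H) : Odd (orderOf g) :=
  hH.of_dvd_nat (orderOf_dvd_natCard H hg)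

theorem quat_of (hH : Odd (Nat.card H)) {Y : Subgroup G} (hY : IsPGroup 2 Y) (hn : H ≤ 𝐍 Y) (hu : Uniq Y) :
    Y ≤ 𝐂 H ∨ Nonempty (Y ≃* QuaternionGroup 2) := by
  refine or_iff_not_imp_left.2 fun h => ?_
  obtain ⟨g, hg, h4⟩ := SetLike.not_le_iff_exists.1 (mt le_centralizer_iff.1 h)
  exact ((Hall.two_subgroup_cent hY hu (hn hg) (odd_orderOf hH hg)).resolve_left h4).1

theorem cent_of_uniq (hH : Odd (Nat.card H)) {A Y : Subgroup G} (hY : IsPGroup 2 Y) (hn : H ≤ 𝐍 Y) (hu : Uniq Y)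
    (hA : A ≤ Y ⊓ 𝐂 Y) (h4 : 4 ≤ Nat.card A) : Y ≤ 𝐂 H := by
  refine (quat_of hH hY hn hu).resolve_right fun ⟨f⟩ => ?_
  obtain ⟨a, ha, a2⟩ := exists_inv (hY.to_le (hA.trans inf_le_left)) (by omega)
  have h1 : A ≤ zpowers a := fun x hx => by
    have h2 : ∀ u : QuaternionGroup 2, (∀ v, v * u = u * v) → u * u = 1 := by decide
    have h3 := h2 (f ⟨x, (hA hx).1⟩) fun v => by
      rw [← f.apply_symm_apply v, ← map_mul, ← map_mul]; exact congrArg f (Subtype.ext ((hA hx).2 _ (f.symm v).2))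
    rw [← map_mul, EmbeddingLike.map_eq_one_iff] at h3
    by_cases h5 : x = 1
    · exact h5 ▸ one_mem _
    · exact hu x (hA hx).1 a (hA ha).1 (orderOf_eq_two_of (congrArg Subtype.val h3) h5) a2 ▸ mem_zpowers x
  have := card_le_of_le h1
  rw [Nat.card_zpowers] at this
  omega

theorem cent_of_idx (hH : Odd (Nat.card H)) {N T : Subgroup G} (hT : IsPGroup 2 T) (hn : H ≤ 𝐍 T) (hN : N ≤ T)
    (h2 : Nat.card T ≤ 2 * Nat.card N) (hc : N ≤ 𝐂 H) : T ≤ 𝐂 H := by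
  rcases hN.eq_or_lt with rfl | h
  · exact hc
  refine le_centralizer_iff.1 fun g hg => ABG.mem_centralizer_of_odd_of_relIndex_two hN (hT.to_le hN) ?_ (odd_orderOf hH hg) (hn hg)
    (le_centralizer_iff.1 hc hg)
  haveI := Invol.fact_two
  have h3 := KS9.mul_card_le_of_lt hT h
  have h4 := Core.card_mul_relIndex hN
  have := Nat.card_pos (α := N)
  nlinarith

theorem cent_of_bad (hH : Odd (Nat.card H)) {A Y : Subgroup G} (hY : IsPGroup 2 Y) (hn : H ≤ 𝐍 Y) (hb : ¬ Good Y)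
    (hA : A ≤ Y ⊓ 𝐂 Y) (h4 : 4 ≤ Nat.card A) {z : G} (hz : z ∈ Y ⊓ 𝐂 H) (z1 : z ≠ 1) (z2 : z * z = 1) : Y ≤ 𝐂 H :=
  (uniq_or hY hb hA h4).elim (fun hu => cent_of_uniq hH hY hn hu hA h4) fun h => cent_of_idx hH hY hn (zpowers_le.2 hz.1)
    (by rw [card_zpowers_invol z2 z1]; exact h.2) (zpowers_le.2 hz.2)

/-- an element of the second centre whose commutators lie in a group of order two is not centralized by `H` -/
theorem not_cent (hH : Odd (Nat.card H)) {T A : Subgroup G} (hT : IsPGroup 2 T) (hn : H ≤ 𝐍 T) (hc : ¬ T ≤ 𝐂 H)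
    (hb : ∀ Y < T, H ≤ 𝐍 Y → ¬ Good Y) {z a : G} (hz : z ∈ T ⊓ 𝐂 H) (z1 : z ≠ 1) (z2 : z * z = 1) (ha : a ∈ 𝐂 H)
    (h1 : ∀ y ∈ T, ⁅y, a⁆ ∈ zpowers z) (hza : z * a = a * z) (hA : A ≤ T ⊓ centralizer {a}) (hA' : A ≤ 𝐂 (T ⊓ centralizer {a}))
    (h4 : 4 ≤ Nat.card A) : a ∈ 𝐂 T := by
  by_contra h
  have h2 : H ≤ 𝐍 (T ⊓ centralizer {a} : Subgroup G) := Core.le_normalizer_inf hn
    (le_trans (fun g hg => mem_cent_single.2 (ha g hg)) le_normalizer)
  refine hc (cent_of_idx hH hT hn inf_le_left ?_ (cent_of_bad hH hT.to_inf_left h2 (hb _ (lt_of_le_of_ne inf_le_left fun e =>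
    h fun y hy => mem_cent_single.1 (e.ge hy).2) h2) (le_inf hA hA') h4 ⟨⟨hz.1, mem_cent_single.2 hza⟩, hz.2⟩ z1 z2))
  have h3 := PGrp.relIndex_centralizer_le_card h1
  have h5 := Core.card_mul_relIndex (inf_le_left : T ⊓ centralizer {a} ≤ T)
  rw [card_zpowers_invol z2 z1] at h3
  rw [inf_comm T, inf_relIndex_right, inf_comm] at h5
  nlinarith

theorem card_le_of_bad {T : Subgroup G} {z : G} (h : ES T z) (hb : ¬ Good T) : Nat.card T ≤ 8 := by
  by_contra h8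
  obtain ⟨b, hb', c, hc, h1⟩ := h.nonab
  obtain ⟨a, ha, a', ha', h2, h3, h4⟩ := h.exists_anti_cent (by omega) hb'
  have z0 : zpowers z ≤ T ⊓ 𝐂 T := zpowers_le.2 ⟨h.mem, h.cen⟩
  have h5 : b ∉ zpowers z := fun e => h1 ((z0 e).2 c hc).symm
  have h6 := card_sup_ge h.isPGroup (z0.trans inf_le_left) hb' h5
  have h7 : ∀ x ∈ T, b * x = x * b → x ∈ 𝐂 (zpowers z ⊔ zpowers b) := fun x hx e => by
    rw [Core.centralizer_sup]; exact ⟨mem_cent_zpowers.2 (h.cen x hx), mem_cent_zpowers.2 e.symm⟩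
  have h9 : a ∉ zpowers z ⊔ zpowers b := fun e => h4 (h7 a' ha' h3 a e)
  rw [card_zpowers_invol h.sq h.ne] at h6
  have m1 : z ∈ zpowers z ⊔ zpowers b := mem_sup_left (mem_zpowers z)
  have m2 : b ∈ zpowers z ⊔ zpowers b := mem_sup_right (mem_zpowers b)
  refine hb (good_of' h.isPGroup (sup_le (z0.trans inf_le_left) (zpowers_le.2 hb')) (sup_comm (le_centralizer _)
    (mem_cent_zpowers.2 (h.cen b hb'))) h6 ha (h7 a ha h2) h9 fun hu => ?_)
  have k : ∀ x ∈ zpowers z ⊔ zpowers b ⊔ zpowers a, x * x = 1 → x ∈ zpowers z := fun x hx e => by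
    by_cases e1 : x = 1
    · exact e1 ▸ one_mem _
    · exact hu z (mem_sup_left m1) x hx h.orderOf_eq (orderOf_eq_two_of e e1) ▸ mem_zpowers z
  have m3 : a ∈ zpowers z ⊔ zpowers b ⊔ zpowers a := mem_sup_right (mem_zpowers a)
  have e1 := (h.sq_mem b hb').resolve_left fun e => h5 (k b (mem_sup_left m2) e)
  have e2 := (h.sq_mem a ha).resolve_left fun e => h9 (mem_sup_left (k a m3 e))
  refine h9 ((mul_mem_cancel_left m2).1 (mem_sup_left (k _ (mul_mem (mem_sup_left m2) m3) ?_)))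
  rw [show b * a * (b * a) = b * (a * b) * a by group, ← h2, ← mul_assoc, e1, mul_assoc, e2, h.sq]

theorem uniq_of_ES (hH : Odd (Nat.card H)) {T : Subgroup G} {z : G} (h : ES T z) (h8 : Nat.card T ≤ 8) (hn : H ≤ 𝐍 T)
    (hc : ¬ T ≤ 𝐂 H) : Uniq T := by
  haveI := Invol.fact_two
  suffices k : ∀ s ∈ T, orderOf s = 2 → s = z from fun s hs t ht s2 t2 => (k s hs s2).trans (k t ht t2).symm
  intro s hs s2
  by_contra h1
  have s3 := mul_self_of_orderOf_two s2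
  obtain ⟨x, hx, h2, h3⟩ : ∃ x ∈ T, s * x ≠ x * s ∧ x * x = z := by
    obtain ⟨y, hy, e⟩ := h.exists_anti hs (ne_one_of_orderOf_two s2) h1
    rcases h.sq_mem y hy with e' | e'
    · refine ⟨s * y, mul_mem hs hy, fun e2 => e (mul_left_cancel (e2.trans (mul_assoc ..))), ?_⟩
      nth_rewrite 1 [h.anti hs hy e]
      rw [show y * s * z * (s * y) = y * s * (z * s) * y by group, ← h.cen s hs, ← mul_assoc, mul_assoc y, s3, mul_one, h.cen y hy,
        mul_assoc, e', mul_one]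
    · exact ⟨y, hy, e, e'⟩
  have x4 : orderOf x = 2 ^ 2 := orderOf_eq_prime_pow (by rw [pow_one, pow_two, h3]; exact h.ne) (h.pow_four hx)
  have h4 : zpowers x ≤ T := zpowers_le.2 hx
  have h5 : s ∉ zpowers x := fun e => h2 (mem_cent_zpowers.1 (le_centralizer _ e))
  have h6 : s * x * s⁻¹ = x⁻¹ := by
    rw [h.conj_anti hs hx h2, eq_inv_iff_mul_eq_one, h.cen x hx, mul_assoc, h3, h.sq]
  have h7 : zpowers x ⊔ zpowers s = T := eq_of_le_of_card_ge (sup_le h4 (zpowers_le.2 hs)) (by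
    have := card_sup_ge h.isPGroup h4 hs h5
    rw [Nat.card_zpowers, x4] at this; omega)
  have h9 : ∀ w ∈ T, w * w = z → w ∈ zpowers x := fun w hw e => by
    by_contra h9
    have h10 : (zpowers x).relIndex T = 2 := by
      have := Core.card_mul_relIndex h4
      have := card_sup_ge h.isPGroup h4 hs h5
      rw [h7, Nat.card_zpowers, x4] at *
      omega
    obtain ⟨n, hn⟩ : s * w ∈ zpowers x := (ABG.mul_mem_iff_of_relIndex_two h10 hs hw).2 (by tauto)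
    have e2 : w = s * x ^ n := by rw [show x ^ n = s * w from hn, ← mul_assoc, s3, one_mul]
    have e3 : s * x ^ n * s⁻¹ = (x ^ n)⁻¹ := by rw [← conj_zpow, h6, inv_zpow]
    rw [e2, show s * x ^ n * (s * x ^ n) = s * x ^ n * s⁻¹ * (s * s) * x ^ n by group, e3, s3] at e
    exact h.ne (by simpa using e.symm)
  refine hc (cent_of_idx hH h.isPGroup hn h4 (by rw [Nat.card_zpowers, x4]; omega) (le_centralizer_iff.1 fun g hg =>
    ABG.mem_centralizer_of_odd_of_isCyclic inferInstance (h.isPGroup.to_le h4) (odd_orderOf hH hg)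
      (mem_normalizer_of_cj_le (by
        rw [cj_zpowers]
        exact zpowers_le.2 (h9 _ (Core.conj_mem_of_mem_normalizer (hn hg) hx)
          (by rw [conj_mul, h3, conj_eq_of_comm (h.comm_of_norm (hn hg))]))))))

end Cfsg.Lib.Min8
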