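import Cfsg.Agent.Lib.PGrp.Min8

/-! Continuation of `Min8`: the structure theorem. -/

set_option autoImplicit false

namespace Cfsg.Lib.Min8

open Subgroup Cfsg.Lib Cfsg.Lib.Amalg Cfsg.Lib.Known2
open scoped commutatorElement

variable {G : Type*} [Group G] [Finite G] {H : Subgroup G}

theorem es_of (hH : Odd (Nat.card H)) {W : Subgroup G} (hW : IsPGroup 2 W) (hn : H ≤ 𝐍 W) (hc : ¬ W ≤ 𝐂 H)
    (hb : ∀ Y < W, H ≤ 𝐍 Y → ¬ Good Y) (h1 : Nat.card ↥(W ⊓ 𝐂 W) = 2) : ∃ z, ES W z := by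
  haveI := Invol.fact_two
  obtain ⟨z, z1, z2, hz⟩ := exists_invol_of_card_two h1
  have nC : ∀ {A : Subgroup G}, H ≤ 𝐍 A → H ≤ 𝐍 (A ⊓ 𝐂 A : Subgroup G) := fun h =>
    Core.le_normalizer_inf h (Core.le_normalizer_centralizer h)
  have zC : zpowers z ≤ 𝐂 H := hz ▸ le_centralizer_iff.1 (KS9.le_cent_of_card_two h1 (nC hn))
  have zW : z ∈ W ⊓ 𝐂 H := ⟨(hz.ge (mem_zpowers z)).1, zC (mem_zpowers z)⟩
  have hZ : ∀ x ∈ W, x * z = z * x := (hz.ge (mem_zpowers z)).2
  let Y : Subgroup G :=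
    { carrier := {x | x ∈ W ∧ ∀ y ∈ W, x * y * x⁻¹ = y ∨ x * y * x⁻¹ = y * z}
      one_mem' := ⟨one_mem W, by simp⟩
      mul_mem' := fun {x y} hx hy => ⟨mul_mem hx.1 hy.1, fun w hw => by
        rw [show x * y * w * (x * y)⁻¹ = x * (y * w * y⁻¹) * x⁻¹ by group]
        rcases hy.2 w hw with e | e <;> rw [e]
        · exact hx.2 w hw
        · rw [← conj_mul, conj_eq_of_comm (hZ x hx.1)]
          rcases hx.2 w hw with e | e <;> simp [e, mul_assoc, z2]⟩
      inv_mem' := fun {x} hx => ⟨inv_mem hx.1, fun w hw => by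
        refine (hx.2 w hw).imp (fun e => by nth_rewrite 1 [← e]; group) fun e => ?_
        have : x * (w * z) * x⁻¹ = w := by rw [← conj_mul, e, conj_eq_of_comm (hZ x hx.1), mul_assoc, z2, mul_one]
        nth_rewrite 1 [← this]; group⟩ }
  have hYW : Y ≤ W := fun x hx => hx.1
  have zY : z ∈ Y := ⟨zW.1, fun y hy => Or.inl (conj_eq_of_comm (hZ y hy).symm)⟩
  have hY : ∀ g ∈ 𝐍 W, g * z = z * g → g ∈ 𝐍 Y := fun g hg h2 => mem_normalizer_fintype fun x hx =>
    ⟨Core.conj_mem_of_mem_normalizer hg hx.1, fun y hy => by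
      rw [show g * x * g⁻¹ * y * (g * x * g⁻¹)⁻¹ = g * (x * (g⁻¹ * y * g) * x⁻¹) * g⁻¹ by group]
      rcases hx.2 _ (Core.conj_inv_mem_of_mem_normalizer hg hy) with e | e <;> rw [e]
      exacts [Or.inl (by group), Or.inr (by rw [← conj_mul, conj_eq_of_comm h2]; group)]⟩
  have hEY : H ≤ 𝐍 Y := fun g hg => hY g (hn hg) (zW.2 g hg)
  have hWY : W ≤ 𝐍 Y := fun g hg => hY g (le_normalizer hg) (hZ g hg)
  have ab : Y ⊓ 𝐂 Y ≤ zpowers z := fun a ha => by
    by_contra h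
    have h2 : zpowers z ≤ Y ⊓ 𝐂 Y := zpowers_le.2 ⟨zY, fun y hy => hZ y hy.1⟩
    have h3 := card_sup_ge (hW.to_le (inf_le_left.trans hYW)) h2 ha h
    rw [card_zpowers_invol z2 z1] at h3
    have h4 : Y ⊓ 𝐂 Y ≤ 𝐂 (Y ⊓ 𝐂 Y) := inf_le_right.trans (Core.centralizer_anti inf_le_left)
    have h5 := cent_of_bad hH (hW.to_le (inf_le_left.trans hYW)) (nC hEY) (hb _ (lt_of_le_of_ne (inf_le_left.trans hYW)
      fun e => hc ((le_inf le_rfl (by rw [e] at h4; exact h4)).trans (hz.le.trans zC))) (nC hEY)) (le_inf le_rfl h4)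
      (h3.trans (card_le_of_le (sup_le h2 (zpowers_le.2 ha)))) ⟨h2 (mem_zpowers z), zW.2⟩ z1 z2
    refine h (hz.le ⟨ha.1.1, not_cent hH hW hn hc hb zW z1 z2 (h5 ha) (fun y hy => (mem_zpowers_invol z2).2 ?_) (hZ a ha.1.1).symm
      (sup_le (zpowers_le.2 ⟨zW.1, mem_cent_single.2 (hZ a ha.1.1).symm⟩) (zpowers_le.2 ⟨ha.1.1, mem_cent_single.2 rfl⟩))
      (sup_le (zpowers_le.2 fun y hy => hZ y hy.1) (zpowers_le.2 fun y hy => mem_cent_single.1 hy.2)) h3⟩)
    refine (ha.1.2 _ (inv_mem hy)).imp (fun e => ?_) fun e => ?_ <;>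
      rw [show ⁅y, a⁆ = y * (a * y⁻¹ * a⁻¹) by rw [commutatorElement_def]; group, e] <;> simp
  have hD : W ⊓ 𝐂 Y ≤ zpowers z := by
    have h2 : zpowers z ≤ W ⊓ 𝐂 Y := zpowers_le.2 ⟨zW.1, fun y hy => hZ y hy.1⟩
    refine (h2.eq_or_lt.resolve_right fun h3 => ?_).ge
    obtain ⟨L, h4, h5, -, h6, h7⟩ := PGrp.exists_card_eq_mul_of_normalizes hW h3 inf_le_left
      (fun g hg => cent_le_norm _ (mem_cent_zpowers.2 (hZ g hg)))
      (Core.le_normalizer_inf le_normalizer (hWY.trans (Core.normalizer_le_normalizer_centralizer _)))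
    have := card_le_of_le ((le_inf (fun x hx => ⟨(h5 hx).1, fun y hy => ((mem_zpowers_invol z2).1
      (h7 (commutator_mem_commutator hx hy))).imp (fun e => by rwa [commutatorElement_def, mul_inv_eq_one] at e) fun e => by
        rw [hZ y hy, ← e]; simp [commutatorElement_def]⟩) (h5.trans inf_le_right)).trans ab)
    have := Nat.card_pos (α := zpowers z)
    omega
  have h2 : ES Y z := by
    refine ⟨zY, z1, z2, fun x hx => hZ x hx.1,
      fun x hx h => (mem_zpowers_invol z2).1 (hD ⟨hx.1, fun y hy => (h y hy).symm⟩), fun x hx y hy => (hx.2 y hy.1).imp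
        comm_of_conj_eq fun e => by rw [mul_assoc, hZ x hx.1, ← mul_assoc, ← e]; group,
      fun x hx => (mem_zpowers_invol z2).1 (hD ⟨mul_mem hx.1 hx.1, fun y hy => (comm_of_conj_eq ?_).symm⟩), ?_⟩
    · rw [show x * x * y * (x * x)⁻¹ = x * (x * y * x⁻¹) * x⁻¹ by group]
      rcases hx.2 y hy.1 with e | e <;> rw [e]
      exacts [e, by rw [← conj_mul, e, conj_eq_of_comm (hZ x hx.1), mul_assoc, z2, mul_one]]
    · by_contra! h
      have := (le_inf le_rfl fun x hx y hy => h y hy x hx).trans ab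
      exact hc fun w hw => zC (hD ⟨hw, fun y hy => by
        rcases (mem_zpowers_invol z2).1 (this hy) with rfl | rfl
        exacts [by simp, (hZ w hw).symm]⟩)
  have hYW' : Y = W := le_antisymm hYW fun w hw => by
    obtain ⟨q, hq, h3⟩ := h2.exists_inner (hZ w hw) fun x hx => by
      rcases hx.2 w hw with e | e
      · exact Or.inl (conj_eq_of_comm (comm_of_conj_eq e).symm)
      · right
        calc w * x * w⁻¹ = (w * z) * x * (w * z)⁻¹ := by rw [mul_assoc w z, ← hZ x hx.1]; group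
          _ = x * (w * (w * z)⁻¹) := by nth_rewrite 1 [← e]; group
          _ = _ := by rw [mul_inv_rev, h2.inv_z, ← mul_assoc w, hZ w hw, mul_inv_cancel_right]
    exact (mul_mem_cancel_left (inv_mem hq)).1 (zpowers_le.2 h2.mem (hD ⟨W.mul_mem (W.inv_mem (hYW hq)) hw, fun y hy => (comm_of_conj_eq (by
      rw [show q⁻¹ * w * y * (q⁻¹ * w)⁻¹ = q⁻¹ * (w * y * w⁻¹) * q by group, h3 y hy]; group)).symm⟩))
  exact ⟨z, hYW' ▸ h2⟩

theorem card_cases {Z : Subgroup G} (hZ : IsPGroup 2 Z) (h : Z ≠ ⊥) : Nat.card Z = 2 ∨ 4 ≤ Nat.card Z := by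
  haveI := Invol.fact_two
  obtain ⟨k, hk⟩ := hZ.exists_card_eq
  obtain rfl | rfl | h1 : k = 0 ∨ k = 1 ∨ 2 ≤ k := by omega
  exacts [absurd (card_eq_one.1 hk) h, Or.inl hk, Or.inr (hk ▸ Nat.pow_le_pow_right (i := 2) two_pos h1)]

theorem big_centre (hH : Odd (Nat.card H)) {T : Subgroup G} (hT : IsPGroup 2 T) (hn : H ≤ 𝐍 T) (hc : ¬ T ≤ 𝐂 H)
    (hb : ∀ Y < T, H ≤ 𝐍 Y → ¬ Good Y) (h4 : 4 ≤ Nat.card ↥(T ⊓ 𝐂 T)) (hab : ¬ T ≤ 𝐂 T) (ht : T ⊔ H = ⊤) :
    (∃ E ≤ T, E.relIndex T = 2 ∧ Nonempty (E ≃* QuaternionGroup 2) ∧ E ⊔ T ⊓ 𝐂 E = T) ∨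
      (IsSpecial 2 T ∧ Nat.card (center T) = 4) := by
  haveI := Invol.fact_two
  set Z := T ⊓ 𝐂 T with hZ
  have nZ : H ≤ 𝐍 Z := Core.le_normalizer_inf hn (Core.le_normalizer_centralizer hn)
  have nZ' : T ≤ 𝐍 Z := Core.le_normalizer_inf le_normalizer (Core.le_normalizer_centralizer le_normalizer)
  have lZ : Z < T := lt_of_le_of_ne inf_le_left fun e => hab (e.ge.trans inf_le_right)
  have cZ : ∀ Y ≤ T, Z ≤ 𝐂 Y := fun Y h => inf_le_right.trans (Core.centralizer_anti h)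
  have sq : ∀ a ∈ T, a * a ∈ Z → ∀ y ∈ T, ⁅y, a⁆ ∈ Z → ⁅y, a⁆ * ⁅y, a⁆ = 1 := fun a ha h1 y hy h2 => by
    have h3 := h2.2 a ha
    have h5 := h1.2 y hy
    calc ⁅y, a⁆ * ⁅y, a⁆ = ⁅y, a⁆ * (⁅y, a⁆ * a) * a⁻¹ := by group
      _ = y * (a * a) * y⁻¹ * (a * a)⁻¹ := by
        rw [← h3, commutatorElement_def]; group
      _ = 1 := by rw [h5]; group
  have chief : ∀ Y, Z ≤ Y → Y < T → H ≤ 𝐍 Y → T ≤ 𝐍 Y → Y ≤ Z := fun Y h1 h2 h3 h5 => by
    refine (uniq_or (hT.to_le h2.le) (hb Y h2 h3) (le_inf h1 (cZ Y h2.le)) h4).elim (fun hu => ?_) And.left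
    have h6 := cent_of_uniq hH (hT.to_le h2.le) h3 hu (le_inf h1 (cZ Y h2.le)) h4
    refine (h1.eq_or_lt.resolve_right fun h7 => ?_).ge
    obtain ⟨L, l1, l2, -, l3, l4⟩ := PGrp.exists_card_eq_mul_of_normalizes hT h7 h2.le nZ' h5
    obtain ⟨a, ha, a1⟩ := SetLike.not_le_iff_exists.1 (fun h : L ≤ Z => by have := card_le_of_le h; omega)
    obtain ⟨z, hz, z2⟩ := exists_inv (hT.to_le lZ.le) (by omega)
    have aT := h2.le (l2 ha)
    refine a1 ⟨aT, not_cent hH hT hn hc hb ⟨hz.1, h6 (h1 hz)⟩ (ne_one_of_orderOf_two z2) (mul_self_of_orderOf_two z2) (h6 (l2 ha))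
      (fun y hy => ?_) (hz.2 a aT).symm (le_inf inf_le_left fun x hx => mem_cent_single.2 (hx.2 a aT).symm) (cZ _ inf_le_left) h4⟩
    have h8 : ⁅y, a⁆ ∈ Z := l4 (commutator_comm T L ▸ commutator_mem_commutator hy ha)
    by_cases e : ⁅y, a⁆ = 1
    · exact e ▸ one_mem _
    · exact hu z (h1 hz) _ (h1 h8) z2 (orderOf_eq_two_of (sq a aT (ABG.mul_self_mem_of_relIndex_two (by
        have := Core.card_mul_relIndex l1; nlinarith) ha) y hy h8) e) ▸ mem_zpowers z
  have hΦ : (frattini T).map T.subtype ≤ Z := le_sup_right.trans (chief (Z ⊔ (frattini T).map T.subtype) le_sup_left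
    (lt_of_le_of_ne (sup_le lZ.le (Core.frattiniOf_le T)) fun e => lZ.ne (Core.eq_of_sup_frattiniOf_eq lZ.le e.ge))
    (Core.le_normalizer_sup nZ (hn.trans (Core.normalizer_le_normalizer_frattiniOf T)))
    (Core.le_normalizer_sup nZ' (le_normalizer.trans (Core.normalizer_le_normalizer_frattiniOf T))))
  have hD := (Core.commutator_le_frattiniOf hT).trans hΦ
  have hs : ∀ x ∈ T, x * x ∈ Z := fun x hx => hΦ (pow_two x ▸ Core.pow_mem_frattiniOf hT hx)
  have hE : ∀ x ∈ ⁅T, T⁆, x * x = 1 := by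
    let K : Subgroup G := { carrier := {x | x ∈ Z ∧ x * x = 1}
                            one_mem' := ⟨one_mem _, one_mul 1⟩
                            mul_mem' := fun {x y} hx hy => ⟨mul_mem hx.1 hy.1, by
                              rw [show x * y * (x * y) = x * (y * x) * y by group, hx.1.2 y hy.1.1, ← mul_assoc, hx.2, one_mul, hy.2]⟩
                            inv_mem' := fun {x} hx => ⟨inv_mem hx.1, by rw [← mul_inv_rev, hx.2, inv_one]⟩ }
    exact fun x hx => ((commutator_le.2 fun y hy a ha => ⟨hD (commutator_mem_commutator hy ha),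
      sq a ha (hs a ha) y hy (hD (commutator_mem_commutator hy ha))⟩ : ⁅T, T⁆ ≤ K) hx).2
  have hu := uniq_or (hT.to_le lZ.le) (hb Z lZ nZ) (le_inf le_rfl (cZ Z lZ.le)) h4
  have two : ∀ A ≤ Z, A ≠ ⊥ → (∀ x ∈ A, x * x = 1) → Uniq Z → Nat.card A = 2 := fun A hA h1 h2 h3 => by
    obtain ⟨z, hz, z2⟩ := exists_inv (hT.to_le (hA.trans lZ.le)) ((one_lt_card_iff_ne_bot _).2 h1)
    rw [← z2, ← Nat.card_zpowers, le_antisymm (zpowers_le.2 hz) fun x hx => by
      by_cases e : x = 1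
      exacts [e ▸ one_mem _, h3 z (hA hz) x (hA hx) z2 (orderOf_eq_two_of (h2 x hx) e) ▸ mem_zpowers z]]
  have hne : ⁅T, T⁆ ≠ ⊥ := fun e => hab (commutator_eq_bot_iff_le_centralizer.1 e)
  rcases hD.eq_or_lt with e | lD
  · refine Or.inr ⟨⟨hT, map_injective T.subtype_injective ?_, map_injective T.subtype_injective ?_⟩, ?_⟩
    · rw [Core.map_subtype_center]; exact le_antisymm hΦ (e.ge.trans (Core.commutator_le_frattiniOf hT))
    · rw [Core.map_subtype_center, map_subtype_commutator]; exact e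
    · rw [← Core.card_map_subtype, Core.map_subtype_center]
      exact le_antisymm (hu.resolve_left fun h => by have := two _ hD hne hE h; rw [e] at this; omega).2 h4
  obtain ⟨z, z1, z2, hz⟩ := exists_invol_of_card_two (Z := ⁅T, T⁆) (hu.elim (two _ hD hne hE) fun h => by
    have := KS9.mul_card_le_of_lt (hT.to_le lZ.le) lD
    have := (one_lt_card_iff_ne_bot _).2 hne
    omega)
  have zZ : z ∈ Z := hD (hz.ge (mem_zpowers z))
  have zH : z ∈ 𝐂 H := le_centralizer_iff.1 (KS9.le_cent_of_card_two (hz ▸ card_zpowers_invol z2 z1)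
    (Core.le_normalizer_commutator hn hn)) (hz.ge (mem_zpowers z))
  have ZH := cent_of_bad hH (hT.to_le lZ.le) nZ (hb Z lZ nZ) (le_inf le_rfl (cZ Z lZ.le)) h4 ⟨zZ, zH⟩ z1 z2
  have nrm : ∀ Y, Z ≤ Y → Y ≤ T → T ≤ 𝐍 Y := fun Y h1 h2 g hg => mem_normalizer_fintype fun y hy => by
    simpa [commutatorElement_def] using mul_mem (h1 (hD (commutator_mem_commutator hg (h2 hy)))) hy
  have CH := chief (T ⊓ 𝐂 H) (le_inf lZ.le ZH) (lt_of_le_of_ne inf_le_left fun e => hc (e.ge.trans inf_le_right))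
    (Core.le_normalizer_inf hn (Core.le_normalizer_centralizer le_normalizer)) (nrm _ (le_inf lZ.le ZH) inf_le_left)
  have cop : (Nat.card H).Coprime (Nat.card T) := by
    obtain ⟨k, hk⟩ := hT.exists_card_eq
    exact hk ▸ (Nat.coprime_two_right.2 hH).pow_right k
  have eT : ⁅T, H⁆ ≤ T := BG1.commutator_le_left_of_norm hn
  have nE : H ≤ 𝐍 ⁅T, H⁆ := Core.le_normalizer_commutator hn le_normalizer
  have sE : ⁅T, H⁆ ⊔ Z = T := le_antisymm (sup_le eT lZ.le) ((BG1.coprime_cent_prod hn cop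
    (Or.inr (by haveI := hT.isNilpotent; infer_instance))).ge.trans (sup_le_sup_left CH _))
  have iE : ⁅T, H⁆ ⊓ Z ≤ zpowers z := fun x hx => by
    haveI : (zpowers z).Normal := normal_of_top_le_normalizer (ht.ge.trans (sup_le (fun g hg => cent_le_norm _
      (mem_cent_zpowers.2 (zZ.2 g hg))) fun g hg => cent_le_norm _ (mem_cent_zpowers.2 (zH g hg))))
    have h1 := BG1.coprime_abelian_cent_TI (A := H.map (QuotientGroup.mk' (zpowers z))) (K := T.map (QuotientGroup.mk' (zpowers z)))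
      ((map_mono hn).trans (le_normalizer_map _)) ((cop.of_dvd_left (card_map_dvd _ _)).of_dvd_right (card_map_dvd _ _))
      (isMulCommutative_iff_le_cent.2 (commutator_eq_bot_iff_le_centralizer.1 (by
        rw [← map_commutator, Core.map_mk'_eq_bot_iff]; exact hz.le)))
    rw [← map_commutator] at h1
    exact (QuotientGroup.eq_one_iff x).1 (mem_bot.1 (h1.le ⟨mem_map_of_mem _ hx.1, map_centralizer_le_centralizer_image _ _
      (mem_map_of_mem _ (ZH hx.2))⟩))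
  generalize ⁅T, H⁆ = E at *
  have cE : ∀ x ∈ T, x ∈ 𝐂 E → x ∈ Z := fun x hx h => ⟨hx, by
    rw [← sE, Core.centralizer_sup]; exact ⟨h, le_centralizer_iff.1 (cZ T le_rfl) hx⟩⟩
  have cm : ∀ x ∈ T, ∀ y ∈ T, x * y = y * x ∨ x * y = y * x * z := fun x hx y hy => by
    refine ((mem_zpowers_invol z2).1 (hz.le (commutator_mem_commutator (inv_mem hx) (inv_mem hy)))).imp (fun e => ?_) fun e => ?_ <;>
      rw [show x * y = y * x * ⁅x⁻¹, y⁻¹⁆ by rw [commutatorElement_def]; group, e] <;> simp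
  obtain ⟨x, hx, y, hy, hxy⟩ : ∃ x ∈ E, ∃ y ∈ E, x * y ≠ y * x := by
    by_contra! h
    exact lZ.ne (le_antisymm lZ.le (sE.ge.trans (sup_le (fun x hx => cE x (eT hx) fun y hy => h y hy x hx) le_rfl)))
  have es : ES E z := ⟨(mul_mem_cancel_left (mul_mem hy hx)).1 ((cm x (eT hx) y (eT hy)).resolve_left hxy ▸ mul_mem hx hy), z1, z2,
    fun x hx => zZ.2 x (eT hx), fun x hx h => (mem_zpowers_invol z2).1 (iE ⟨hx, cE x (eT hx) fun y hy => (h y hy).symm⟩),
    fun x hx y hy => cm x (eT hx) y (eT hy), fun x hx => (mem_zpowers_invol z2).1 (iE ⟨mul_mem hx hx, hs x (eT hx)⟩), x, hx, y, hy, hxy⟩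
  have lz : zpowers z < Z := hz ▸ lD
  have lE : E < T := lt_of_le_of_ne eT fun e => lz.not_ge ((le_inf (lZ.le.trans e.ge) le_rfl).trans iE)
  have EH : ¬ E ≤ 𝐂 H := fun h => hc (sE.ge.trans (sup_le h ZH))
  have e8 := card_le_of_bad es (hb E lE nE)
  have uE := uniq_of_ES hH es e8 nE EH
  obtain ⟨L, l1, l2, -, l3, -⟩ := PGrp.exists_card_eq_mul_of_normalizes hT lz lZ.le
    (fun g hg => cent_le_norm _ (mem_cent_zpowers.2 (zZ.2 g hg))) nZ'
  rw [card_zpowers_invol z2 z1] at l3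
  obtain ⟨l, hl, l4⟩ := SetLike.not_le_iff_exists.1 (fun h : L ≤ zpowers z => by
    have := card_le_of_le h; rw [card_zpowers_invol z2 z1] at this; omega)
  have xZ : x ∉ Z := fun h => hxy (h.2 y (eT hy)).symm
  have x2 : x * x = z := (es.sq_mem x hx).resolve_left fun e => xZ (uE z es.mem x hx es.orderOf_eq
    (orderOf_eq_two_of e fun e1 => xZ (e1 ▸ one_mem Z)) ▸ zZ)
  have sL : E ⊔ L = T := (sup_le eT (l2.trans lZ.le)).eq_or_lt.resolve_right fun h => hb _ h (Core.le_normalizer_sup nE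
    ((le_centralizer_iff.1 (l2.trans ZH)).trans (cent_le_norm _))) (good_of' (hT.to_le h.le) le_sup_right
      (l2.trans (cZ L (l2.trans lZ.le))) (by omega) (mem_sup_left hx) (fun g hg => ((l2 hg).2 x (eT hx)).symm) (fun h => xZ (l2 h))
      fun hu => by
        have k : ∀ w ∈ L ⊔ zpowers x, w * w = 1 → w ∈ Z ∧ w ∈ zpowers z := fun w hw e => by
          by_cases e1 : w = 1
          · exact e1 ▸ ⟨one_mem _, one_mem _⟩
          · exact hu z (mem_sup_left (l1 (mem_zpowers z))) w hw es.orderOf_eq (orderOf_eq_two_of e e1) ▸ ⟨zZ, mem_zpowers z⟩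
        have h1 := ((mem_zpowers_invol z2).1 (ABG.mul_self_mem_of_relIndex_two (by
          have := Core.card_mul_relIndex l1; rw [card_zpowers_invol z2 z1] at this; omega) hl)).resolve_left
          fun e => l4 (k l (mem_sup_left hl) e).2
        refine xZ ((mul_mem_cancel_left (l2 hl)).1 (k _ (mul_mem (mem_sup_left hl) (mem_sup_right (mem_zpowers x))) ?_).1)
        rw [show l * x * (l * x) = l * (x * l) * x by group, (l2 hl).2 x (eT hx), ← mul_assoc, h1, mul_assoc, x2, z2])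
  refine Or.inl ⟨E, eT, ?_, (quat_of hH es.isPGroup nE uE).resolve_left EH,
    le_antisymm (sup_le eT inf_le_left) (sE.ge.trans (sup_le_sup_left (le_inf lZ.le (cZ E eT)) _))⟩
  have h1 := Core.card_sup_mul_card_inf' (H := E) (K := L) ((l2.trans (cZ E eT)).trans (cent_le_norm _))
  have h2 := card_le_of_le (zpowers_le.2 (Subgroup.mem_inf.2 ⟨es.mem, l1 (mem_zpowers z)⟩))
  have h3 := KS9.mul_card_le_of_lt hT lE
  have h5 := Core.card_mul_relIndex eT
  have := Nat.card_pos (α := E)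
  rw [card_zpowers_invol z2 z1] at h2
  rw [sL, l3] at h1
  nlinarith

end Cfsg.Lib.Min8
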