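import Cfsg.Agent.Lib.PGrp.CExt
import Cfsg.Agent.Lib.Linear.DicksonCount
import Cfsg.Agent.Lib.Amalg.Syl

/-! Groups with an extraspecial Sylow `p`-subgroup of order `p³` and exponent `p`: the action of the Sylow normalizer
on the projective line. -/

set_option autoImplicit false

namespace Cfsg.Lib.PGrp

open Subgroup Linear Amalg
open Matrix hiding zpow_add zpow_mul mul_inv_rev
open scoped commutatorElement

variable {p : ℕ} [hp : Fact p.Prime]

theorem tame_of {K : Type*} [Field K] [CharP K p] {H : Subgroup (PGL2 K)} (h : ¬ p ∣ Nat.card H) (x : PL K) : H ⊓ unip x = ⊥ :=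
  isPGroup_eq_bot_of_not_dvd (isPGroup_unip p x).to_inf_right inf_le_left h

theorem three_points (H : Subgroup (PGL2 (ZMod p))) [Finite H] (hH : ¬ p ∣ Nat.card H) (x : Fin 3 → PL (ZMod p)) (hx : Function.Injective x)
    (h : ∀ i, ∃ g ∈ H, g • x i = x i ∧ 3 ≤ orderOf g) : (∀ g ∈ H, orderOf g ≤ 5) ∧ 3 ∣ Nat.card H := by
  let f := algebraMap (ZMod p) (AlgebraicClosure (ZMod p))
  have hi := pglMap_injective f
  have hc := card_map_of_injective (K := H) hi
  haveI : Finite (H.map (ProjGenLinGroup.map (n := Fin 2) f)) := Finite.of_surjective _ (MonoidHom.subgroupMap_surjective _ H)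
  have ht := tame_of (hc ▸ hH)
  choose g h1 h2 h3 using h
  have k1 : ∀ i, ProjGenLinGroup.map f (g i) ∈ H.map (ProjGenLinGroup.map (n := Fin 2) f) := fun i => mem_map_of_mem _ (h1 i)
  have k2 : ∀ i, ProjGenLinGroup.map f (g i) • plMap f (x i) = plMap f (x i) := fun i => by rw [← plMap_smul, h2]
  have k3 : ∀ i, ProjGenLinGroup.map f (g i) * ProjGenLinGroup.map f (g i) ≠ 1 := fun i e => by
    have := Nat.le_of_dvd two_pos (orderOf_dvd_of_pow_eq_one (n := 2) (x := g i) (hi (by rw [sq, map_mul, e, map_one])))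
    have := h3 i
    omega
  have k4 : ∀ i, ProjGenLinGroup.map f (g i) ≠ 1 := fun i e => k3 i (by rw [e, mul_one])
  have key : ∀ a b, ¬ ∀ i, plMap f (x i) = a ∨ plMap f (x i) = b := fun a b h => by
    have hn : ∀ i j, i ≠ j → plMap f (x i) ≠ plMap f (x j) := fun i j e e' => e (hx (plMap_injective f e'))
    have := hn 0 1 (by decide); have := hn 0 2 (by decide); have := hn 1 2 (by decide)
    rcases h 0 with e0 | e0 <;> rcases h 1 with e1 | e1 <;> rcases h 2 with e2 | e2 <;> simp_all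
  rcases dickson_tame ht with ⟨y, hy⟩ | ⟨a, b, hab, h4⟩ | ⟨h4, h5⟩
  · obtain ⟨w, hw, h5⟩ := exists_fixed_of_not_mem_unip (hy _ (k1 0)) fun e => k4 0 (mem_bot.1 ((ht y).le ⟨k1 0, e⟩))
    exact absurd (fun i => fixed_eq_or_eq (k4 i) hw.symm (hy _ (k1 i)) (smul_eq_of_commute (k4 0) hw.symm (hy _ (k1 0)) h5
      (commute_of_le_stabilizer hy (ht y) (k1 i) (k1 0)) (hy _ (k1 i))) (k2 i)) (key y w)
  · exact absurd (fun i => (h4 _ (k1 i)).elim (fun e => fixed_eq_or_eq (k4 i) hab e.1 e.2 (k2 i)) fun e =>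
      absurd (mul_self_of_swap hab e.1 e.2) (k3 i)) (key a b)
  · exact ⟨fun g hg => orderOf_injective _ hi g ▸ h4 _ (mem_map_of_mem _ hg), by rw [hc] at h5; omega⟩

theorem exists_plane {E : Type*} [Group E] [Finite E] (h : IsExtraspecial p E) (hc : Nat.card E = p ^ 3) :
    ∃ M : CExt p E (Fin 2 → ZMod p), M.alt.Nondeg := by
  obtain ⟨V, _, _, _, M, m, hN, -⟩ := IsExtraspecial.exists_cExt h
  have h1 := Nat.pow_right_injective hp.out.two_le (M.card_eq_pow.symm.trans hc)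
  let e : V ≃ₗ[ZMod p] (Fin 2 → ZMod p) := LinearEquiv.ofFinrankEq _ _ (by simpa using h1)
  let e' := AddEquiv.toMultiplicative e.toAddEquiv
  exact ⟨⟨M.ι, e'.toMonoidHom.comp M.π, M.inj, e'.surjective.comp M.surj,
    (MonoidHom.ker_comp_of_injective _ _ e'.injective).trans M.exact, M.central⟩,
    (CExt.nondeg_iff _).2 (M.nondeg_iff.1 hN)⟩

theorem CExt.exists_gl {E : Type*} [Group E] (M : CExt p E (Fin 2 → ZMod p)) (hN : M.alt.Nondeg) :
    ∃ σ : MulAut E →* GL (Fin 2) (ZMod p), ∀ φ x, σ φ • M.pr x = M.pr (φ x) := by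
  have h : ∀ (φ : MulAut E) x, M.pr x = 0 → M.pr (φ.toMonoidHom x) = 0 := fun φ x hx => by
    rw [M.pr_eq_zero', ← M.nondeg_iff.1 hN] at hx ⊢
    exact (MulEquivClass.apply_mem_center_iff φ).2 hx
  have h1 : ∀ (φ : MulAut E) x, LinearMap.toMatrix' (M.lin M φ.toMonoidHom (h φ)) *ᵥ M.pr x = M.pr (φ x) := fun φ x => by
    rw [LinearMap.toMatrix'_mulVec, M.lin_pr]; rfl
  exact ⟨MonoidHom.toHomUnits
    { toFun := fun φ => LinearMap.toMatrix' (M.lin M φ.toMonoidHom (h φ))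
      map_one' := Matrix.ext_iff_mulVec.2 (M.pr_surjective.forall.2 fun x => by rw [h1, one_mulVec]; rfl)
      map_mul' := fun φ ψ => Matrix.ext_iff_mulVec.2 (M.pr_surjective.forall.2 fun x => by
        rw [← mulVec_mulVec, h1, h1, h1]; rfl) }, h1⟩

variable {G : Type*} [Group G] [Finite G]

omit hp in
theorem exists_torus {P : Subgroup G} (hP : Syl p P ⊤) {a z : G} (hz : ∀ u ∈ P, u * z * u⁻¹ = z) (ha : a ∈ P)
    (h1 : ∀ u ∈ P, ∃ j : ℤ, u * a * u⁻¹ = a * z ^ j) (X : ∀ s : ℕ, ∃ u ∈ P, u * a * u⁻¹ = a * z ^ s)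
    (Y : ∀ t : ℕ, ∃ g, g * a * g⁻¹ = a ∧ g * z * g⁻¹ = z * (a ^ t)⁻¹) {l m : ℕ} (la : a ^ (l * m) = a) (lz : z ^ (l * m) = z)
    [Fact p.Prime] : ∃ h ∈ 𝐍 P, h * z * h⁻¹ = z ^ l ∧ ∃ j : ℤ, h * a * h⁻¹ = a ^ m * z ^ j := by
  have c : Commute a z := mul_inv_eq_iff_eq_mul.1 (hz a ha)
  have W : ∀ l m : ℕ, a ^ (l * m) = a → z ^ (l * m) = z → ∃ w, MulAut.conj w z = (a ^ m)⁻¹ ∧ MulAut.conj w a = z ^ l :=
    fun l m la lz => by
      obtain ⟨x, hx, x1⟩ := X l
      obtain ⟨y, y1, y2⟩ := Y m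
      have x2 := hz x hx
      rw [← MulAut.conj_apply] at x1 x2 y1 y2
      refine ⟨x * y * x, ?_, ?_⟩ <;> simp only [map_mul, MulAut.mul_apply, x1, x2, y1, y2, map_inv, map_pow]
      all_goals rw [(c.pow_right l).mul_pow, ← pow_mul, lz, _root_.mul_inv_rev, mul_inv_cancel_left]
      rw [inv_pow, ← pow_mul, mul_comm m, la, (c.pow_right l).eq, mul_inv_cancel_right]
  obtain ⟨w, w1, w2⟩ := W l m la lz
  obtain ⟨v, v1, v2⟩ := W 1 1 (by simp) (by simp)
  have h2 : MulAut.conj (w * v⁻¹) z = z ^ l := by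
    rw [← w2, ← (MulAut.conj v).symm_apply_apply a, v2, pow_one]; simp [mul_assoc]
  have h3 : MulAut.conj (w * v⁻¹) a = a ^ m := by
    rw [← inv_inv (a ^ m), ← w1, ← map_inv, ← (MulAut.conj v).symm_apply_apply z⁻¹, map_inv, v1, pow_one]; simp [mul_assoc]
  generalize w * v⁻¹ = h at h2 h3
  let L : Subgroup G :=
    { carrier := {g | MulAut.conj g z = z ∧ ∃ j : ℤ, MulAut.conj g a = a * z ^ j}
      one_mem' := ⟨by simp, 0, by simp⟩
      mul_mem' := by
        rintro g k ⟨g1, i, g2⟩ ⟨k1, j, k2⟩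
        exact ⟨by rw [map_mul, MulAut.mul_apply, k1, g1], i + j, by
          rw [map_mul, MulAut.mul_apply, k2, map_mul, map_zpow, g1, g2, mul_assoc, zpow_add]⟩
      inv_mem' := by
        rintro g ⟨g1, i, g2⟩
        refine ⟨?_, -i, ?_⟩ <;> rw [map_inv, MulAut.inv_def, MulEquiv.symm_apply_eq]
        · exact g1.symm
        · rw [map_mul, map_zpow, g1, g2]; group }
  obtain ⟨k, ⟨k1, j, k2⟩, hk⟩ := (hP.of_le (K := L) (fun u hu => ⟨hz u hu, h1 u hu⟩) le_top).exists_le_conj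
    (isPGroup_cj h⁻¹ hP.isPGroup) fun g hg => by
      rw [mem_cj, inv_inv] at hg
      obtain ⟨j, hj⟩ := h1 _ (hg)
      have h4 := hz _ hg
      rw [← MulAut.conj_apply] at hj h4
      have h5 : ∀ x, MulAut.conj h (MulAut.conj g x) = MulAut.conj (h * g * h⁻¹) (MulAut.conj h x) := fun x => by
        simp [mul_assoc]
      refine ⟨(MulAut.conj h).injective (by rw [h5, h2, map_pow, h4]), j * m * m, (MulAut.conj h).injective ?_⟩
      rw [h5, h3, map_pow, hj, (c.zpow_right j).mul_pow, map_mul, map_zpow, h2, h3, ← zpow_natCast, ← zpow_natCast (z ^ j),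
        ← zpow_natCast z, ← zpow_mul, ← zpow_mul, show (l : ℤ) * (j * m * m) = (l * m : ℕ) * (j * m) by push_cast; ring, zpow_mul z (l * m : ℕ),
        zpow_natCast z, lz]
  refine ⟨h * k, inv_mem_iff.1 (mem_normalizer_of_cj_le ?_), ?_, l * j, ?_⟩
  · rwa [_root_.mul_inv_rev, cj_mul, ← le_cj_iff]
  · rw [← MulAut.conj_apply, map_mul, MulAut.mul_apply, k1, h2]
  · rw [← MulAut.conj_apply, map_mul, MulAut.mul_apply, k2, map_mul, map_zpow, h2, h3, zpow_mul, zpow_natCast]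

/-- the torus element normalizing the Sylow subgroup -/
theorem exists_pgl (P : Sylow p G) (hexp : ∀ x : P, x ^ p = 1) (M : CExt p P (Fin 2 → ZMod p)) (hN : M.alt.Nondeg) :
    ∃ H : Subgroup (PGL2 (ZMod p)), Finite H ∧ ¬ p ∣ Nat.card H ∧ ∀ (a : P) (ha : M.pr a ≠ 0),
      (∃ g : G, g * a * g⁻¹ = a ∧ ∃ b ∈ zpowers (a : G), b ≠ 1 ∧ g * M.i 1 * g⁻¹ = M.i 1 * b) →
      ∃ g ∈ H, g • Projectivization.mk (ZMod p) (M.pr a) ha = Projectivization.mk (ZMod p) (M.pr a) ha ∧ p - 1 ∣ 3 * orderOf g := by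
  obtain ⟨σ, hσ⟩ := M.exists_gl hN
  let ρ := (ProjGenLinGroup.mk.comp σ).comp (P : Subgroup G).normalizerMonoidHom
  refine ⟨ρ.range, Finite.of_surjective _ ρ.rangeRestrict_surjective, fun h => (syl_top P).not_dvd_index
    ((h.trans ?_).trans (relIndex_dvd_index_of_le (le_normalizer (H := (P : Subgroup G))))), fun a ha ⟨g, g1, b, hb, b1, g2⟩ => ?_⟩
  · rw [← index_ker]
    refine index_dvd_of_le fun u hu => ?_
    have : σ ((P : Subgroup G).normalizerMonoidHom u) = 1 := Units.ext (Matrix.ext_iff_mulVec.2 (M.pr_surjective.forall.2 fun x => by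
      refine (hσ _ x).trans ?_
      rw [show (P : Subgroup G).normalizerMonoidHom u x = ⟨u, hu⟩ * x * ⟨u, hu⟩⁻¹ from rfl]
      simp [M.pr_mul, M.pr_inv]))
    exact (congrArg ProjGenLinGroup.mk this).trans (map_one _)
  obtain ⟨lam, hlam⟩ := IsCyclic.exists_ofOrder_eq_natCard (α := (ZMod p)ˣ)
  have hlm : ∀ x : P, (x : G) ^ ((lam : ZMod p).val * (lam⁻¹ : (ZMod p)ˣ).val.val) = x := fun x => by
    rw [← coe_pow, pow_eq_pow_of_modEq (n := p) (b := 1) ((ZMod.natCast_eq_natCast_iff _ _ _).1 (by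
      rw [Nat.cast_mul, ZMod.natCast_zmod_val, ZMod.natCast_zmod_val, Units.mul_inv, Nat.cast_one])) (hexp x), pow_one]
  have hi : ∀ s : ℤ, M.i s = M.i 1 ^ s := fun s => (congrArg M.i (zsmul_one s).symm).trans (M.ι.map_zpow (Multiplicative.ofAdd 1) s)
  have hc : ∀ u : P, (u : G) * a * (u : G)⁻¹ = a * M.i (M.B (M.pr u) (M.pr a)) := fun u =>
    congrArg Subtype.val (show u * a * u⁻¹ = a * M.i _ by rw [← (M.i_comm _ a).eq, M.i_B]; simp [commutatorElement_def])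
  have hT := exists_torus (syl_top P) (z := M.i 1) (fun u hu => mul_inv_eq_iff_eq_mul.2
    (congrArg Subtype.val (M.i_comm 1 ⟨u, hu⟩).symm.eq)) a.2 (fun u hu => ⟨(M.B (M.pr ⟨u, hu⟩) (M.pr a)).val, by
      rw [hc ⟨u, hu⟩, M.i_eq_pow, zpow_natCast, coe_pow]⟩) (fun s => ?_) (fun t => ?_) (hlm a) (hlm _)
  · obtain ⟨h, hn, h1, j, h2⟩ := hT
    let φ := (P : Subgroup G).normalizerMonoidHom ⟨h, hn⟩
    have k1 : ∀ s, φ (M.i s) = M.i (lam * s) := fun s => by
      rw [M.i_eq_pow, map_pow, show φ (M.i 1) = M.i 1 ^ (lam : ZMod p).val from Subtype.ext h1, ← M.i_eq_pow, ← M.i_nsmul]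
      simp [mul_comm]
    have k2 : M.pr (φ a) = (lam⁻¹ : (ZMod p)ˣ) • M.pr a := by
      rw [show φ a = a ^ (lam⁻¹ : (ZMod p)ˣ).val.val * M.i 1 ^ j from Subtype.ext h2, ← hi, M.pr_mul, M.pr_i, add_zero, M.pr_pow,
        ← Nat.cast_smul_eq_nsmul (ZMod p), ZMod.natCast_zmod_val, Units.smul_def]
    refine ⟨ρ ⟨h, hn⟩, ⟨_, rfl⟩, (Projectivization.mk_eq_mk_iff _ _ _ ((smul_ne_zero_iff_ne (σ φ)).2 ha) _).2
      ⟨_, ((hσ φ a).trans k2).symm⟩, ?_⟩
    set n := orderOf (ρ ⟨h, hn⟩)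
    obtain ⟨u, hu⟩ := ProjGenLinGroup.mk_eq_mk_iff.1 (show ProjGenLinGroup.mk 1 = ProjGenLinGroup.mk (σ (φ ^ n)) by
      rw [map_pow, map_pow]; exact (pow_orderOf_eq_one (ρ ⟨h, hn⟩)).symm)
    have k3 : ∀ x, M.pr ((φ ^ n) x) = u • M.pr x := fun x => by
      rw [← hσ, ← hu]; simp [Units.smul_def]
    have k4 : ∀ k : ℕ, (∀ s, (φ ^ k) (M.i s) = M.i (lam ^ k * s)) ∧ M.pr ((φ ^ k) a) = (lam⁻¹ ^ k : (ZMod p)ˣ) • M.pr a := fun k => by
      induction k with
      | zero => simp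
      | succ k ih =>
        refine ⟨fun s => by rw [pow_succ, MulAut.mul_apply, k1, ih.1, pow_succ, mul_assoc], ?_⟩
        rw [pow_succ', MulAut.mul_apply, ← hσ, ih.2, smul_comm, hσ, k2, smul_smul, pow_succ]
    have k5 : u = lam⁻¹ ^ n := Units.ext (smul_left_injective _ ha ((k3 a).symm.trans (k4 n).2))
    obtain ⟨y, hy⟩ := hN.exists_ne_zero ha
    obtain ⟨y, rfl⟩ := M.pr_surjective y
    have k6 := M.i_injective ((M.i_B ((φ ^ n) a) ((φ ^ n) y)).trans ((map_commutatorElement (φ ^ n) a y).symm.trans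
      ((congrArg _ (M.i_B a y).symm).trans ((k4 n).1 _))))
    rw [k3, k3, Units.smul_def, Units.smul_def, LinearMap.BilinForm.smul_left, LinearMap.BilinForm.smul_right, ← mul_assoc] at k6
    have k7 : u * u = lam ^ n := Units.ext (by simpa using mul_right_cancel₀ hy k6)
    rw [← ZMod.card_units p, Fintype.card_eq_nat_card, ← hlam, orderOf_dvd_iff_pow_eq_one, mul_comm, pow_mul, pow_succ]
    rw [k5, inv_pow] at k7
    nth_rewrite 2 [← k7]
    group
  · obtain ⟨y, hy⟩ := hN.exists_ne_zero ha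
    obtain ⟨u, hu⟩ := M.pr_surjective ((-s / M.B (M.pr a) y) • y)
    refine ⟨u, u.2, ?_⟩
    rw [hc, hu, LinearMap.BilinForm.smul_left, ← M.B_isAlt.neg_eq (M.pr a) y, mul_neg, div_mul_cancel₀ _ (show M.B (M.pr a) y ≠ 0 from hy), neg_neg, ← Int.cast_natCast, hi,
      zpow_natCast, coe_pow]
  · have h1 : orderOf (a : G) = p := orderOf_eq_prime (by rw [← coe_pow, hexp, coe_one]) fun e => ha (by
      rw [show a = 1 from Subtype.ext e, M.pr_one])
    obtain ⟨n, hn⟩ := (mem_powers_iff_mem_zpowers.2 ((eq_of_le_of_card_ge (zpowers_le.2 hb) (by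
      rw [Nat.card_zpowers, Nat.card_zpowers, h1, orderOf_eq_prime (p := p) (orderOf_dvd_iff_pow_eq_one.1
        (h1 ▸ orderOf_dvd_of_mem_zpowers hb)) b1])).ge (inv_mem (pow_mem (mem_zpowers _) t))))
    have hb' : g * b * g⁻¹ = b := by obtain ⟨k, rfl⟩ := hb; simp only [← conj_zpow, g1]
    refine ⟨g ^ n, ?_, (show b ^ n = _ from hn) ▸ ?_⟩ <;> clear hn <;> induction n with
    | zero => simp
    | succ n ih =>
      rw [pow_succ', _root_.mul_inv_rev, ← mul_assoc, mul_assoc g, mul_assoc g, ih]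
      first | exact g1 | rw [← conj_mul, ← conj_pow, g2, hb', mul_assoc, pow_succ']

theorem CExt.plane {E : Type*} [Group E] [Finite E] (M : CExt p E (Fin 2 → ZMod p)) (hN : M.alt.Nondeg) {B : Subgroup E}
    (hB : Nat.card B = p ^ 2) :
    M.i 1 ∈ B ∧ ∃ a ∈ B, ∃ ha : M.pr a ≠ 0, M.pre (Projectivization.mk (ZMod p) (M.pr a) ha).submodule = B := by
  have hc : Nat.card E = p ^ 3 := by simpa using M.card_eq_pow
  have h1 : B.index = p := Nat.eq_of_mul_eq_mul_left (pow_pos hp.out.pos 2) (by rw [← hB, card_mul_index, hc, hB, pow_succ])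
  haveI : B.Normal := normal_of_index_eq_minFac_card (by rw [h1, hc, hp.out.pow_minFac three_ne_zero])
  obtain ⟨a, ha, h3⟩ : ∃ a ∈ B, M.pr a ≠ 0 := by
    by_contra! h
    have := card_le_of_le (show B ≤ M.ι.range from fun a ha => M.pr_eq_zero'.1 (h a ha))
    rw [hB, M.card_range] at this
    nlinarith [hp.out.two_le]
  have h2 : M.i 1 ∈ B := by
    obtain ⟨y, hy⟩ := hN.exists_ne_zero h3
    obtain ⟨u, hu⟩ := M.pr_surjective ((M.B (M.pr a) y)⁻¹ • y)
    rw [← inv_mul_cancel₀ (show M.B (M.pr a) y ≠ 0 from hy), ← LinearMap.BilinForm.smul_right, ← hu, M.i_B, commutatorElement_def,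
      mul_assoc, mul_assoc]
    exact mul_mem ha (mul_assoc u _ _ ▸ Normal.conj_mem inferInstance _ (inv_mem ha) u)
  refine ⟨h2, a, ha, h3, eq_of_le_of_card_ge (fun x hx => (M.pre_img h2).le ?_) ?_⟩
  · exact (Submodule.span_singleton_le_iff_mem _ _).2 (M.pr_mem_img ha) hx
  · rw [M.card_pre, hB, Projectivization.finrank_submodule]

end Cfsg.Lib.PGrp
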