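import Cfsg.Agent.Lib.PGrp.RV

/-! Transvections of a plane over the prime field. -/

set_option autoImplicit false

namespace Cfsg.Lib.PGrp

open Subgroup
open scoped IsMulCommutative

variable {p : ℕ} [hp : Fact p.Prime] {A : Type*} [Group A] [Finite A]

theorem mem_zpowers_swap {x y : A} (hx : x ^ p = 1) (hy : y ≠ 1) (h : y ∈ zpowers x) : x ∈ zpowers y := by
  have h1 : orderOf x = p := orderOf_eq_prime hx fun e => hy (by simpa [e] using h)
  refine (eq_of_le_of_card_ge (zpowers_le.2 h) ?_).ge (mem_zpowers x)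
  rw [Nat.card_zpowers, Nat.card_zpowers, h1, orderOf_eq_prime (p := p) (orderOf_dvd_iff_pow_eq_one.1
    (h1 ▸ orderOf_dvd_of_mem_zpowers h)) hy]

theorem exists_transv (hc : Nat.card A = p ^ 2) (he : ∀ x : A, x ^ p = 1) {a z : A} (ha : a ≠ 1) (hz : z ∉ zpowers a) :
    ∃ φ : MulAut A, orderOf φ = p ∧ φ a = a ∧ ∃ b ∈ zpowers a, b ≠ 1 ∧ φ z = z * b := by
  haveI := IsPGroup.isMulCommutative_of_card_eq_prime_sq hc
  have h1 : Nat.card (zpowers a) = p := by rw [Nat.card_zpowers, orderOf_eq_prime (he a) ha]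
  have h2 : Nat.card (A ⧸ zpowers a) = p := Nat.eq_of_mul_eq_mul_right hp.out.pos (by
    rw [← sq, ← hc, card_eq_card_quotient_mul_card_subgroup (zpowers a), h1])
  let χ := (zpowers a).subtype.comp ((mulEquivOfPrimeCardEq h2 h1).toMonoidHom.comp (QuotientGroup.mk' (zpowers a)))
  have h3 : ∀ x, χ x ∈ zpowers a := fun x => SetLike.coe_mem _
  have h4 : ∀ x, χ x = 1 ↔ x ∈ zpowers a := fun x => by simp [χ]
  let φ : MulAut A :=
    { toFun := fun x => x * χ x
      invFun := fun x => x * (χ x)⁻¹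
      left_inv := fun x => by simp [(h4 _).2 (h3 x)]
      right_inv := fun x => by simp [(h4 _).2 (h3 x)]
      map_mul' := fun x y => by rw [map_mul, mul_mul_mul_comm] }
  have h5 : ∀ (n : ℕ) x, (φ ^ n) x = x * χ x ^ n := fun n x => by
    induction n with
    | zero => simp
    | succ n ih => rw [pow_succ', MulAut.mul_apply, ih]; simp [φ, (h4 _).2 (h3 x), pow_succ, mul_assoc]
  exact ⟨φ, orderOf_eq_prime (MulEquiv.ext fun x => by rw [h5, he]; simp) fun e => hz ((h4 z).1 (mul_eq_left.1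
    (DFunLike.congr_fun e z))), mul_eq_left.2 ((h4 a).2 (mem_zpowers a)), χ z, h3 z, mt (h4 z).1 hz, rfl⟩

end Cfsg.Lib.PGrp
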